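import Cfsg.Agent.H60.TE6.Basic
import Cfsg.Agent.H60.TE6.Data
import Cfsg.Prelude.Def_LieTwisted

/-!
Words in the root elements of ²E₆(2) and their packed values, without the relations of Fi₂₂.
-/

set_option autoImplicit false
set_option maxRecDepth 100000

namespace H60.Local

open Cfsg.Lie H52 H60.TE6

attribute [local irreducible] step idY delta scale

/-- The root of a position. -/
def rootAt (i : ℕ) : ℕ := roots.getD i 0

/-- The table of a position. -/
def tabAt (i : ℕ) : List (ℕ × ℕ × ℕ) := tabs.getD i []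

/-- A word in root elements applied to a matrix. -/
def evL (w : List (ℕ × ℕ)) (Y : ℕ) : ℕ := w.foldr (fun p Z => step (tabAt p.1) p.2 Z) Y

/-- A word repeated. -/
def wrep (w : List ℕ) : ℕ → List ℕ
  | 0 => []
  | n + 1 => w ++ wrep w n

theorem roots_lt : ∀ i < 12, rootAt i < 72 := by decide +kernel

theorem tabs_ok : ∀ i < 12, tabAt i = entries (rootAt i) := by decide +kernel

/-- The shape of the columns of a root element. -/
def headsB (r : ℕ) : Bool :=
  (List.range 78).all fun v =>
    ((colT chevE6 r 1 0 1 v).head? == some (v, 0, 0, 1)) &&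
      (colT chevE6 r 1 0 1 v).all fun p => p.2.2.1 == 0

theorem headsB_ok : ((List.range 12).all fun i => headsB (rootAt i)) = true := by decide +kernel

theorem heads_ok {i : ℕ} (hi : i < 12) : ∀ v < 78,
    (colT chevE6 (rootAt i) 1 0 1 v).head? = some (v, 0, 0, 1) ∧
      ∀ p ∈ colT chevE6 (rootAt i) 1 0 1 v, p.2.2.1 = 0 := by
  intro v hv
  have h := List.all_eq_true.1 (List.all_eq_true.1 headsB_ok i (List.mem_range.2 hi)) v
    (List.mem_range.2 hv)
  simp only [Bool.and_eq_true, List.all_eq_true, beq_iff_eq] at h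
  exact h

/-- The root elements of a word in letters. -/
def lw (l : List ℕ) : List (ℕ × ℕ) := l.flatMap fun k => letters.getD k []

/-- Agreement of two packed matrices at all places. -/
def sameB (X Y : ℕ) : Bool :=
  (List.range 78).all fun i => (List.range 78).all fun j => Nat.beq (ent X i j) (ent Y i j)

/-- A word in letters with value one. -/
def oneB (l : List ℕ) : Bool := Nat.beq (evL (lw l) idY) idY

/-- The coded words of the letters are among the generating words. -/
def letterOK (l : List (ℕ × ℕ)) : Bool :=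
  match l with
  | [(i, c)] => (c == 1) && [e6p2, e6m2, e6p4, e6m4].elem (rootAt i)
  | [(i, c), (j, d)] => decide (c < 4) && (d == pwc c 2) &&
      [(e6p1, e6p6), (e6m1, e6m6), (e6p3, e6p5), (e6m3, e6m5)].elem (rootAt i, rootAt j)
  | _ => false

theorem letters_ok : ∀ k < 16, letterOK (letters.getD k []) = true := by decide +kernel

theorem letters_small : ∀ k < 16, ∀ p ∈ letters.getD k [], p.1 < 12 ∧ p.2 < 4 := by decide +kernel

theorem lw_small {l : List ℕ} (hl : ∀ k ∈ l, k < 16) : ∀ p ∈ lw l, p.1 < 12 ∧ p.2 < 4 := by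
  intro p hp
  obtain ⟨k, hk, hp⟩ := List.mem_flatMap.1 hp
  exact letters_small k (hl k hk) p hp

theorem wrep_small {l : List ℕ} {b : ℕ} (hl : ∀ k ∈ l, k < b) : ∀ n, ∀ k ∈ wrep l n, k < b := by
  intro n
  induction n with
  | zero => simp [wrep]
  | succ n ih =>
    intro k hk
    rcases List.mem_append.1 hk with h | h
    exacts [hl k h, ih k h]

theorem code_onto : ∀ i < 78, ∃ x : chevE6.Idx, code chevE6 x = i := by
  intro i hi
  by_cases h : i < 72
  · exact ⟨.inr ⟨i, h⟩, rfl⟩
  · exact ⟨.inl ⟨i - 72, show i - 72 < 6 by omega⟩, show 72 + (i - 72) = i by omega⟩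

variable {K : Type*} [Field K] [CharP K 2] {w : K}

/-- The word in root elements of a coded word. -/
def kw (w : K) (l : List (ℕ × ℕ)) : List (ℕ × K) := l.map fun p => (rootAt p.1, val w p.2)

/-- The element of a coded word. -/
noncomputable def el (w : K) (l : List (ℕ × ℕ)) : GL chevE6.Idx K := wordRt chevE6 (kw w l)

omit [CharP K 2] in
theorem el_append (a b : List (ℕ × ℕ)) : el w (a ++ b) = el w a * el w b := by
  simp [el, kw, wordRt]

omit [CharP K 2] in
theorem el_lw_append (a b : List ℕ) : el w (lw (a ++ b)) = el w (lw a) * el w (lw b) := by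
  rw [lw, List.flatMap_append]; exact el_append _ _

omit [CharP K 2] in
theorem el_lw_wrep (l : List ℕ) : ∀ n, el w (lw (wrep l n)) = el w (lw l) ^ n
  | 0 => by simp [wrep, lw, el, kw, wordRt]
  | n + 1 => by rw [show wrep l (n + 1) = l ++ wrep l n from rfl, el_lw_append, el_lw_wrep l n, pow_succ']

variable (hw : w * w = w + 1)
include hw

theorem val_eq_zero {c : ℕ} (hc : c < 4) (h : val w c = 0) : c = 0 := by
  obtain ⟨v0, v1, v2, v3⟩ := val_vals w
  interval_cases c
  · rfl
  · exact absurd (v1.symm.trans h) one_ne_zero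
  · rw [v2] at h; rw [h] at hw; simp at hw
  · rw [v3] at h
    have h1 : w = 1 := by
      rw [← CharTwo.neg_eq (1 : K)]
      exact eq_neg_of_add_eq_zero_right h
    rw [h1, CharTwo.add_self_eq_zero, mul_one] at hw
    exact absurd hw one_ne_zero

theorem evL_toK : ∀ (l : List (ℕ × ℕ)), (∀ p ∈ l, p.1 < 12 ∧ p.2 < 4) → ∀ Y : ℕ,
    toK w (evL l Y) = (el w l : Matrix chevE6.Idx chevE6.Idx K) * toK w Y := by
  intro l
  induction l with
  | nil => intro _ Y; simp [evL, el, kw, wordRt]
  | cons p l ih =>
    intro h Y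
    obtain ⟨h1, h2⟩ := h p List.mem_cons_self
    show toK w (step (tabAt p.1) p.2 (evL l Y)) = _
    rw [step_toK hw (roots_lt _ h1) _ (tabs_ok _ h1) (heads_ok h1) h2,
      ih (fun q hq => h q (List.mem_cons_of_mem _ hq)), el, el, checkedE6.coe_wordRt,
      checkedE6.coe_wordRt, kw, kw, List.map_cons, ← mul_assoc]
    rfl

theorem letter_mem {k : ℕ} (hk : k < 16) : el w (letters.getD k []) ∈ twistedE6 K 2 := by
  have h := letters_ok k hk
  generalize letters.getD k [] = l at h
  refine Subgroup.subset_closure ⟨kw w l, ?_, checkedE6.coe_wordRt _⟩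
  match l, h with
  | [(i, c)], h =>
    simp only [letterOK, Bool.and_eq_true, beq_iff_eq, List.elem_eq_mem, decide_eq_true_eq] at h
    obtain ⟨rfl, hr⟩ := h
    left
    refine ⟨1, one_pow _, rootAt i, hr, ?_⟩
    simp [kw, (val_vals w).2.1]
  | [(i, c), (j, d)], h =>
    simp only [letterOK, Bool.and_eq_true, beq_iff_eq, List.elem_eq_mem, decide_eq_true_eq] at h
    obtain ⟨⟨hc, rfl⟩, hr⟩ := h
    right
    refine ⟨val w c, (rootAt i, rootAt j), hr, ?_⟩
    simp [kw, (val_pwc hw hc 2).2]

theorem ent_inj {a b : ℕ} (ha : a < 4) (hb : b < 4) (h : val w a = val w b) : a = b := by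
  have h1 : val w (a ^^^ b) = val w a + val w b := by
    simp only [val, Nat.testBit_xor, b2k_xor]; ring
  rw [h, CharTwo.add_self_eq_zero] at h1
  exact Nat.xor_eq_zero_iff.1 (val_eq_zero hw (Nat.xor_lt_two_pow (n := 2) ha hb) h1)

theorem ne_of_sameB {X Y : ℕ} (h : (!sameB X Y) = true) : toK w X ≠ toK w Y := by
  intro e
  have hall : sameB X Y = true := by
    simp only [sameB, List.all_eq_true, List.mem_range]
    intro i hi j hj
    obtain ⟨x, rfl⟩ := code_onto i hi
    obtain ⟨y, rfl⟩ := code_onto j hj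
    have e2 := congrFun (congrFun e x) y
    have hlt : ∀ R k : ℕ, rent R k < 4 := fun R k => by
      unfold rent; cases R.testBit k <;> cases R.testBit (78 + k) <;> simp
    have := ent_inj hw (hlt (rowOf X (code chevE6 x)) (code chevE6 y))
      (hlt (rowOf Y (code chevE6 x)) (code chevE6 y)) (by rw [val_rent, val_rent]; exact e2)
    rw [show ent X (code chevE6 x) (code chevE6 y) = _ from this]
    exact Nat.beq_refl _
  rw [hall] at h
  exact Bool.noConfusion h

theorem el_one {l : List ℕ} (hl : ∀ k ∈ l, k < 16) (h : oneB l = true) : el w (lw l) = 1 := by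
  apply Units.ext
  have := evL_toK hw (lw l) (lw_small hl) idY
  rwa [Nat.eq_of_beq_eq_true h, toK_idY, mul_one, eq_comm] at this

theorem el_ne_one {l : List ℕ} (hl : ∀ k ∈ l, k < 16) (h : (!sameB (evL (lw l) idY) idY) = true) :
    el w (lw l) ≠ 1 := fun e => by
  refine ne_of_sameB hw h ?_
  rw [evL_toK hw _ (lw_small hl), e, Units.val_one, one_mul]

theorem el_mem {l : List ℕ} (hl : ∀ k ∈ l, k < 16) : el w (lw l) ∈ twistedE6 K 2 := by
  induction l with
  | nil => simp [lw, el, kw, wordRt, one_mem]
  | cons k l ih =>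
    rw [lw, List.flatMap_cons, el_append]
    exact mul_mem (letter_mem hw (hl k List.mem_cons_self)) (ih fun q hq => hl q (List.mem_cons_of_mem _ hq))

end H60.Local

namespace H60.Local

open Cfsg.Lie

/-- A primitive cube root of unity in the field with four elements. -/
theorem exists_cube_root {K : Type*} [Field K] [Fintype K] (hK : Fintype.card K = 4) :
    ∃ _ : CharP K 2, ∃ w : K, w * w = w + 1 := by
  have hc : CharP K 2 := by
    have : Fact (Nat.Prime 2) := ⟨Nat.prime_two⟩
    exact charP_of_card_eq_prime_pow (f := 2) (by rw [hK]; rfl)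
  refine ⟨hc, ?_⟩
  classical
  obtain ⟨w, -, hw⟩ := Finset.exists_mem_notMem_of_card_lt_card
    (s := ({0, 1} : Finset K)) (t := Finset.univ) (by
      rw [Finset.card_univ, hK]
      exact lt_of_le_of_lt Finset.card_le_two (by norm_num))
  simp only [Finset.mem_insert, Finset.mem_singleton, not_or] at hw
  obtain ⟨h0, h1⟩ := hw
  refine ⟨w, ?_⟩
  have h3 : w ^ 3 = 1 := by
    have := FiniteField.pow_card_sub_one_eq_one w h0
    rwa [hK] at this
  have h4 : (w - 1) * (w * w + w + 1) = 0 := by linear_combination h3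
  have h5 := (mul_eq_zero.1 h4).resolve_left (sub_ne_zero.2 h1)
  have h2 : (2 : K) = 0 := CharTwo.two_eq_zero
  linear_combination h5 - (w + 1) * h2

end H60.Local
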