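import Cfsg.Agent.H60.Local.Pack
import Cfsg.Agent.H60.Local.BrData
import Cfsg.Agent.H60.Local.Word

/-!
An invariant bracket of the module of dimension 78 of ²E₆(2).
-/

set_option autoImplicit false
set_option maxRecDepth 100000

namespace H60.Local

open Cfsg.Lie H52 H60.TE6

/-- The matrix of a basis vector. -/
def bm (a : ℕ) : ℕ := brT.getD a 0

/-- The matrix of the bracket with one column of a packed matrix. -/
def adM (Y j : ℕ) : ℕ := (List.range 78).foldr (fun a acc => scM (ent Y a j) (bm a) ^^^ acc) 0

/-- Left factor times a matrix, skipping its zero rows. -/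
def mulS (A B : ℕ) : ℕ :=
  ((List.range 78).filter fun k => !(Nat.beq (rowOf B k) 0)).foldr (fun k acc => mulT A B k ^^^ acc) 0

/-- The matrix of the bracket with one sparse column. -/
def adS (Y j : ℕ) : ℕ :=
  ((List.range 78).filter fun a => !(Nat.beq (ent Y a j) 0)).foldr
    (fun a acc => scM (ent Y a j) (bm a) ^^^ acc) 0

/-- The check of invariance under one root element at one parameter, for one basis vector. -/
def eqvA (i t X a : ℕ) : Bool :=
  Nat.beq (step (tabAt i) t (bm a)) (adS X a ^^^ mulS (adS X a) (X ^^^ idY))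

/-- The check of invariance under one root element at one parameter. -/
def eqvOK (i t : ℕ) : Bool :=
  (List.range 78).all fun a => eqvA i t (step (tabAt i) t idY) a

section Field

variable {K : Type*} [Field K] [CharP K 2]

/-- A column of a packed matrix. -/
def colK (w : K) (Y j : ℕ) : chevE6.Idx → K := fun z => rv w (rowOf Y (code chevE6 z)) j

/-- The matrix of the bracket with a vector. -/
def adK (w : K) (v : chevE6.Idx → K) : Matrix chevE6.Idx chevE6.Idx K :=
  ∑ z, v z • toK w (bm (code chevE6 z))

/-- The bracket. -/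
def br (w : K) (u v : chevE6.Idx → K) : chevE6.Idx → K := (adK w u).mulVec v

omit [CharP K 2] in
theorem adK_add (w : K) (u v : chevE6.Idx → K) : adK w (u + v) = adK w u + adK w v := by
  simp [adK, add_smul, Finset.sum_add_distrib]

omit [CharP K 2] in
theorem adK_smul (w : K) (c : K) (v : chevE6.Idx → K) : adK w (c • v) = c • adK w v := by
  simp [adK, Finset.smul_sum, mul_smul]

omit [CharP K 2] in
theorem adK_sum (w : K) {ι : Type*} (s : Finset ι) (f : ι → chevE6.Idx → K) :
    adK w (∑ i ∈ s, f i) = ∑ i ∈ s, adK w (f i) := by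
  simp only [adK, Finset.sum_apply, Finset.sum_smul]
  exact Finset.sum_comm

variable {w : K} (hw : w * w = w + 1)

include hw

omit hw in
theorem rent_lt4 (R k : ℕ) : rent R k < 4 := by
  unfold rent
  cases R.testBit k <;> cases R.testBit (78 + k) <;> simp

theorem toK_adM (Y j : ℕ) : toK w (adM Y j) = adK w (colK w Y j) := by
  have key : ∀ L : List ℕ, toK w (L.foldr (fun a acc => scM (ent Y a j) (bm a) ^^^ acc) 0) =
      (L.map fun a => rv w (rowOf Y a) j • toK w (bm a)).sum := by
    intro L
    induction L with
    | nil => simp [toK_zero]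
    | cons a L ih =>
      rw [List.foldr_cons, toK_xor hw, ih, toK_scM hw (c := ent Y a j) (rent_lt4 _ _), List.map_cons,
        List.sum_cons, ent, val_rent]
  rw [adM, key, ← List.sum_toFinset _ List.nodup_range, List.toFinset_range, ← code_image,
    Finset.sum_image fun a _ b _ h => code_injective h]
  rfl

omit hw [CharP K 2] in
theorem sum_filter (f : ℕ → K) (b : ℕ → Bool) (h : ∀ k, b k = false → f k = 0) :
    ∀ L : List ℕ, ((L.filter b).map f).sum = (L.map f).sum
  | [] => rfl
  | k :: L => by
    by_cases hk : b k = true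
    · rw [List.filter_cons_of_pos hk, List.map_cons, List.sum_cons, List.map_cons, List.sum_cons,
        sum_filter f b h L]
    · rw [List.filter_cons_of_neg hk, List.map_cons, List.sum_cons,
        h k (Bool.eq_false_iff.2 hk), zero_add, sum_filter f b h L]

theorem toK_mulS (A B : ℕ) : toK w (mulS A B) = toK w A * toK w B := by
  ext x y
  show rv w (rowOf (mulS A B) (code chevE6 x)) (code chevE6 y) = _
  rw [mulS, rv_mulL hw A B (code_lt x) (code_lt y) _
    (fun k hk => List.mem_range.1 (List.mem_filter.1 hk).1), sum_filter, Matrix.mul_apply, sum_code]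
  · rfl
  · intro k hk
    rw [Nat.eq_of_beq_eq_true (by simpa using hk : Nat.beq (rowOf B k) 0 = true), rv_zero, mul_zero]

theorem toK_adS (Y j : ℕ) : toK w (adS Y j) = toK w (adM Y j) := by
  rw [adS, adM]
  induction List.range 78 with
  | nil => rfl
  | cons a L ih =>
    by_cases h : ent Y a j = 0
    · rw [List.filter_cons_of_neg (by simp [h]), ih, List.foldr_cons, toK_xor hw, h,
        show scM 0 (bm a) = 0 from rfl, toK_zero, zero_add]
    · rw [List.filter_cons_of_pos (by
          simp only [Bool.not_eq_true', ← Bool.not_eq_true]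
          exact fun e => h (Nat.eq_of_beq_eq_true e)), List.foldr_cons, List.foldr_cons,
        toK_xor hw, toK_xor hw, ih]

omit hw [CharP K 2] in
theorem colK_mulVec (Y : ℕ) (z : chevE6.Idx) :
    (toK w Y).mulVec (Pi.single z 1) = colK w Y (code chevE6 z) := by
  rw [Matrix.mulVec_single_one]
  rfl

/-- A matrix which commutes with the bracket. -/
def Eqv (w : K) (g : Matrix chevE6.Idx chevE6.Idx K) : Prop :=
  ∀ u, g * adK w u = adK w (g.mulVec u) * g

omit hw [CharP K 2] in
theorem Eqv.br_map {g : Matrix chevE6.Idx chevE6.Idx K} (h : Eqv w g) (u v : chevE6.Idx → K) :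
    g.mulVec (br w u v) = br w (g.mulVec u) (g.mulVec v) := by
  rw [br, br, Matrix.mulVec_mulVec, h u, ← Matrix.mulVec_mulVec]

theorem eqv_step {i t : ℕ} (hi : i < 12) (ht : t < 4) (h : eqvOK i t = true) :
    Eqv w (chevE6.x K (rootAt i) (val w t)) := by
  have hX : ∀ Y, toK w (step (tabAt i) t Y) = chevE6.x K (rootAt i) (val w t) * toK w Y :=
    fun Y => step_toK hw (roots_lt _ hi) _ (tabs_ok _ hi) (heads_ok hi) ht Y
  have hI : toK w (step (tabAt i) t idY) = chevE6.x K (rootAt i) (val w t) := by
    rw [hX, toK_idY, mul_one]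
  simp only [eqvOK, eqvA, List.all_eq_true, List.mem_range] at h
  intro u
  have hb : ∀ z, chevE6.x K (rootAt i) (val w t) * toK w (bm (code chevE6 z)) =
      adK w ((chevE6.x K (rootAt i) (val w t)).mulVec (Pi.single z 1)) *
        chevE6.x K (rootAt i) (val w t) := by
    intro z
    have e := congrArg (toK w) (Nat.eq_of_beq_eq_true (h _ (code_lt z)))
    rw [hX, toK_xor hw, toK_mulS hw, toK_xor hw, toK_idY, toK_adS hw, toK_adM hw, hI,
      ← colK_mulVec, hI, mul_add, mul_one, add_left_comm] at e
    rw [show ∀ M : Matrix chevE6.Idx chevE6.Idx K, M + M = 0 from fun M =>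
      Matrix.ext fun a b => CharTwo.add_self_eq_zero (M a b), add_zero] at e
    exact e
  have hu : u = ∑ z, u z • (Pi.single z (1 : K) : chevE6.Idx → K) := by
    ext y
    simp [Finset.sum_apply, Pi.single_apply, eq_comm]
  conv_rhs => rw [hu, Matrix.mulVec_sum, adK_sum, Finset.sum_mul]
  rw [adK, Finset.mul_sum]
  refine Finset.sum_congr rfl fun z _ => ?_
  rw [mul_smul_comm, hb, Matrix.mulVec_smul, adK_smul, smul_mul_assoc]

end Field

end H60.Local
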