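import Cfsg.Agent.H60.Local.Glue

/-!
Normalisers of cyclic subgroups which are not maximal, from the checks.
-/

set_option autoImplicit false
set_option maxRecDepth 100000

namespace H60.Local

open Cfsg.Lie H52 H60.TE6 Matrix

attribute [local irreducible] step idY delta scale mulM adM scM colMask lowMask

variable {K : Type*} [Field K] [Fintype K] [CharP K 2] {w : K} (hw : w * w = w + 1)
  (hK : Fintype.card K = 4)

include hw hK

theorem br_rho (g : ↥(twistedE6 K 2)) (u v : chevE6.Idx → K) :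
    (rho g).mulVec (br w u v) = br w ((rho g).mulVec u) ((rho g).mulVec v) :=
  (eqv_mem hw hK g.2).br_map u v

omit hw hK [Fintype K] [CharP K 2] in
theorem fix_pow {z : ↥(twistedE6 K 2)} {u : chevE6.Idx → K} (h : (rho z).mulVec u = u) :
    ∀ k : ℕ, (rho (z ^ k)).mulVec u = u
  | 0 => by rw [pow_zero, map_one, Matrix.one_mulVec]
  | k + 1 => by rw [pow_succ', map_mul, ← Matrix.mulVec_mulVec, fix_pow h k, h]

omit hw hK [Fintype K] [CharP K 2] in
theorem conj_mem_normalizer {G : Type*} [Group G] {P : Subgroup G} {g y : G}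
    (hg : g ∈ Subgroup.normalizer (P : Set G)) (hy : y ∈ P) : g * y * g⁻¹ ∈ P :=
  (Subgroup.mem_normalizer_iff.1 hg y).1 hy

theorem not_normalise {l h : List ℕ} (hl : ∀ k ∈ l, k < 16) (hh : ∀ k ∈ h, k < 16) {p : ℕ}
    [Fact p.Prime] (ho : orderOf (gel hw hl) = p) (hn : nrmB l p h = true) :
    gel hw hh ∉ Subgroup.normalizer ((Subgroup.zpowers (gel hw hl) : Subgroup _) : Set ↥(twistedE6 K 2)) := by
  intro hm
  have h1 := conj_mem_normalizer hm (Subgroup.mem_zpowers (gel hw hl))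
  classical
  obtain ⟨i, hi, e⟩ := Finset.mem_image.1 (mem_zpowers_iff_mem_range_orderOf.1 h1)
  rw [ho, Finset.mem_range] at hi
  simp only [nrmB, List.all_eq_true, List.mem_range] at hn
  refine ne_of_sameB hw (hn i hi) ?_
  rw [toK_evL hw hh, toK_gM hw hl, toK_evL hw (wrep_lt hl i), toK_gM hw hh, ← map_mul, ← map_mul]
  refine congrArg (rho (K := K)) (?_ : gel hw hh * gel hw hl = gel hw (wrep_lt hl i) * gel hw hh)
  rw [gel_wrep hw hl, e, inv_mul_cancel_right]

/-- The normaliser of a cyclic group is not maximal, from the checks of a fixed space. -/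
theorem nc_fix {l h g : List ℕ} {p G C Q : ℕ} {W : List (ℕ × ℕ × ℕ)} [Fact p.Prime]
    (hp : p % 2 = 1) (hl : ∀ k ∈ l, k < 16) (hh : ∀ k ∈ h, k < 16) (hg : ∀ k ∈ g, k < 16)
    (hW : ∀ e ∈ W, e.1 = 0 ∧ e.2.1 < 78) (hc : fixB l p G C Q W h g = true) :
    ¬ IsCoatom (Subgroup.normalizer
      ((Subgroup.zpowers (gel hw hl) : Subgroup _) : Set ↥(twistedE6 K 2))) := by
  simp only [fixB, Bool.and_eq_true] at hc
  obtain ⟨⟨⟨⟨⟨⟨hord, hn⟩, hspan⟩, hkill⟩, hwit⟩, hs⟩, hmv⟩ := hc
  have ho := order_gel hw hl hord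
  set y := gel hw hl with hy
  let T : Set ↥(twistedE6 K 2) := {z | z ∈ Subgroup.zpowers y ∧ z ≠ 1}
  have hR := fix_wit hw hwit T fun e he => ⟨(hW e he).2, y,
    ⟨Subgroup.mem_zpowers y, gel_ne_one hw hl (by
      simp only [ordB, Bool.and_eq_true] at hord; exact hord.2)⟩,
    by rw [(hW e he).1]; exact fix_cols hw hl hspan⟩
  have hker := eq_ker_of_cert (W := fixW (br w) rho T) (Q := toK w Q) (fun x hx => by
    refine (Submodule.span_le (p := LinearMap.ker (toK w Q).mulVecLin)).2 ?_ hx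
    rintro _ ⟨z, ⟨hz, hz1⟩, u, v, hu, hv, rfl⟩
    classical
    have hyz : y ∈ Subgroup.zpowers z := by
      have e : Subgroup.zpowers z = Subgroup.zpowers y := by
        refine Subgroup.eq_of_le_of_card_ge (Subgroup.zpowers_le.2 hz) ?_
        rw [Nat.card_zpowers, Nat.card_zpowers, ho]
        rcases (Nat.dvd_prime (Fact.out : p.Prime)).1
          (ho ▸ orderOf_dvd_of_mem_zpowers hz) with h | h
        · exact absurd (orderOf_eq_one_iff.1 h) hz1
        · rw [h]
      rw [e]; exact Subgroup.mem_zpowers y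
    obtain ⟨k, -, hk⟩ := Finset.mem_image.1 (mem_zpowers_iff_mem_range_orderOf.1 hyz)
    obtain ⟨c, rfl⟩ := fix_range hw hl hp hspan (show (rho y).mulVec u = u by rw [← hk]; exact fix_pow hu k)
    obtain ⟨d, rfl⟩ := fix_range hw hl hp hspan (show (rho y).mulVec v = v by rw [← hk]; exact fix_pow hv k)
    exact fix_kill hw hkill c d) hR
  refine not_isCoatom_of_mid (M := stabS rho (fixW (br w) rho T)) ?_ (gel_stab hw hh hs hker)
    (not_normalise hw hK hl hh ho hn) (gel_move hw hg hmv hker hR)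
  intro x hx
  refine fixW_le_stab (br w) rho (br_rho hw hK) T fun z hz => ⟨conj_mem_normalizer hx hz.1, ?_⟩
  intro e
  exact hz.2 (conj_eq_one_iff.1 e)

theorem top_stab (x : ↥(twistedE6 K 2)) :
    x ∈ stabS rho (LinearMap.range (toK w idY).mulVecLin) :=
  mem_stabS fun v _ => ⟨(rho x).mulVec v, by rw [Matrix.mulVecLin_apply, toK_idY, Matrix.one_mulVec]⟩

omit hK [Fintype K] in
theorem range_comp {Q : ℕ} {W : Submodule K (chevE6.Idx → K)}
    (h : (∀ z, z ∈ W ↔ (toK w Q).mulVec z = 0) ∧ ∀ v, (1 + toK w Q).mulVec v ∈ W) :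
    LinearMap.range (toK w (idY ^^^ Q)).mulVecLin = W := by
  apply le_antisymm
  · rintro _ ⟨v, rfl⟩
    rw [Matrix.mulVecLin_apply, toK_comp hw]
    exact h.2 v
  · intro x hx
    exact ⟨x, by rw [Matrix.mulVecLin_apply, toK_comp hw, Matrix.add_mulVec, Matrix.one_mulVec,
      (h.1 x).1 hx, add_zero]⟩

omit hw hK [Fintype K] [CharP K 2] in
theorem conj_power {G : Type*} [Group G] [Finite G] {p : ℕ} [Fact p.Prime] {y x : G}
    (ho : orderOf y = p)
    (hx : x ∈ Subgroup.normalizer ((Subgroup.zpowers y : Subgroup G) : Set G)) :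
    ∃ k : ℕ, x * y * x⁻¹ = y ^ k ∧ (k : ZMod p) ≠ 0 := by
  classical
  obtain ⟨k, hk, e⟩ := Finset.mem_image.1 (mem_zpowers_iff_mem_range_orderOf.1
    (conj_mem_normalizer hx (Subgroup.mem_zpowers y)))
  refine ⟨k, e.symm, fun h0 => ?_⟩
  rw [ho, Finset.mem_range] at hk
  rw [Nat.eq_zero_of_dvd_of_lt ((ZMod.natCast_eq_zero_iff k p).1 h0) hk, pow_zero] at e
  have h1 : y = 1 := conj_eq_one_iff.1 e.symm
  rw [h1, orderOf_one] at ho
  exact (Fact.out : p.Prime).ne_one ho.symm

variable {l h g : List ℕ} {p c : ℕ} {PW : List ℕ} [Fact p.Prime]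
  {Q U n : ℕ} {Cs : List ℕ} {W : List (ℕ × ℕ)}

/-- The normaliser of a cyclic group is not maximal, from one level of scaled brackets. -/
theorem nc_one (hl : ∀ k ∈ l, k < 16) (hh : ∀ k ∈ h, k < 16) (hg : ∀ k ∈ g, k < 16)
    (hW : ∀ e ∈ W, e.1 < 78) (hp : (powB l p PW && ordB l p && nrmB l p h) = true)
    (hc : levelB p c PW Q U n idY idY Cs W = true) (hs : (stabB Q h && moveB Q g) = true) :
    ¬ IsCoatom (Subgroup.normalizer
      ((Subgroup.zpowers (gel hw hl) : Subgroup _) : Set ↥(twistedE6 K 2))) := by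
  simp only [Bool.and_eq_true] at hp hs
  obtain ⟨⟨hPW, hord⟩, hn⟩ := hp
  have ho := order_gel hw hl hord
  have hker := level_ker hw hl hPW c hc hW (top_stab hw hK _)
  refine not_isCoatom_of_mid ?_ (gel_stab hw hh hs.1 hker.1) (not_normalise hw hK hl hh ho hn)
    (gel_move hw hg hs.2 hker.1 hker.2)
  intro x hx
  obtain ⟨k, hk, hk0⟩ := conj_power ho hx
  exact phiW_le_stab (br w) rho (br_rho hw hK) (gel_pow_zero hw hl hPW) _ hk hk0
    (top_stab hw hK x) (top_stab hw hK x)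

/-- The normaliser of a cyclic group is not maximal, from two levels of scaled brackets. -/
theorem nc_two {c' Q' U' n' R' : ℕ} {Cs' : List ℕ} {W' : List (ℕ × ℕ)}
    (hl : ∀ k ∈ l, k < 16) (hh : ∀ k ∈ h, k < 16) (hg : ∀ k ∈ g, k < 16)
    (hW : ∀ e ∈ W, e.1 < 78) (hW' : ∀ e ∈ W', e.1 < 78)
    (hp : (powB l p PW && ordB l p && nrmB l p h) = true)
    (hc : levelB p c PW Q U n idY idY Cs W = true)
    (hR' : R' = idY ∨ R' = idY ^^^ Q)
    (hc' : levelB p c' PW Q' U' n' (idY ^^^ Q) R' Cs' W' = true)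
    (hs : (stabB Q' h && moveB Q' g) = true) :
    ¬ IsCoatom (Subgroup.normalizer
      ((Subgroup.zpowers (gel hw hl) : Subgroup _) : Set ↥(twistedE6 K 2))) := by
  simp only [Bool.and_eq_true] at hp hs
  obtain ⟨⟨hPW, hord⟩, hn⟩ := hp
  have ho := order_gel hw hl hord
  have hA : ∀ x ∈ Subgroup.normalizer ((Subgroup.zpowers (gel hw hl) : Subgroup _) : Set ↥(twistedE6 K 2)),
      x ∈ stabS rho (LinearMap.range (toK w (idY ^^^ Q)).mulVecLin) := by
    intro x hx
    obtain ⟨k, hk, hk0⟩ := conj_power ho hx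
    rw [range_comp hw (level_ker hw hl hPW c hc hW (top_stab hw hK _))]
    exact phiW_le_stab (br w) rho (br_rho hw hK) (gel_pow_zero hw hl hPW) _ hk hk0
      (top_stab hw hK x) (top_stab hw hK x)
  have hA' : ∀ x ∈ Subgroup.normalizer ((Subgroup.zpowers (gel hw hl) : Subgroup _) : Set ↥(twistedE6 K 2)),
      x ∈ stabS rho (LinearMap.range (toK w R').mulVecLin) := by
    rcases hR' with rfl | rfl
    · exact fun x _ => top_stab hw hK x
    · exact hA
  have hker := level_ker hw hl hPW c' hc' hW'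
    (hA' _ (Subgroup.le_normalizer (Subgroup.mem_zpowers _)))
  refine not_isCoatom_of_mid ?_ (gel_stab hw hh hs.1 hker.1) (not_normalise hw hK hl hh ho hn)
    (gel_move hw hg hs.2 hker.1 hker.2)
  intro x hx
  obtain ⟨k, hk, hk0⟩ := conj_power ho hx
  exact phiW_le_stab (br w) rho (br_rho hw hK) (gel_pow_zero hw hl hPW) _ hk hk0 (hA x hx) (hA' x hx)

end H60.Local
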