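import Cfsg.Agent.H60.Local.Bracket

/-!
Kernel certificate of invariance of the bracket under the twelve root elements.
-/

set_option autoImplicit false
set_option maxRecDepth 100000

namespace H60.Local

open Cfsg.Lie H52 H60.TE6

theorem eqv_ok0 : (eqvOK 0 1 && eqvOK 0 2) = true := by decide +kernel

theorem eqv_ok1 : (eqvOK 1 1 && eqvOK 1 2) = true := by decide +kernel

theorem eqv_ok2 : (eqvOK 2 1 && eqvOK 2 2) = true := by decide +kernel

theorem eqv_ok3 : (eqvOK 3 1 && eqvOK 3 2) = true := by decide +kernel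

theorem eqv_ok4 : (eqvOK 4 1 && eqvOK 4 2) = true := by decide +kernel

theorem eqv_ok5 : (eqvOK 5 1 && eqvOK 5 2) = true := by decide +kernel

theorem eqv_ok6 : (eqvOK 6 1 && eqvOK 6 2) = true := by decide +kernel

theorem eqv_ok7 : (eqvOK 7 1 && eqvOK 7 2) = true := by decide +kernel

theorem eqv_ok8 : (eqvOK 8 1 && eqvOK 8 2) = true := by decide +kernel

theorem eqv_ok9 : (eqvOK 9 1 && eqvOK 9 2) = true := by decide +kernel

theorem eqv_ok10 : (eqvOK 10 1 && eqvOK 10 2) = true := by decide +kernel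

theorem eqv_ok11 : (eqvOK 11 1 && eqvOK 11 2) = true := by decide +kernel

theorem eqv_ok : ∀ i < 12, eqvOK i 1 = true ∧ eqvOK i 2 = true := by
  intro i hi
  interval_cases i <;> simp only [← Bool.and_eq_true]
  · exact eqv_ok0
  · exact eqv_ok1
  · exact eqv_ok2
  · exact eqv_ok3
  · exact eqv_ok4
  · exact eqv_ok5
  · exact eqv_ok6
  · exact eqv_ok7
  · exact eqv_ok8
  · exact eqv_ok9
  · exact eqv_ok10
  · exact eqv_ok11

end H60.Local
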