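/-!
The words of the elements of prime order of ²E₆(2) above five.
-/

set_option autoImplicit false

namespace H60.Local

/-- The first generator of a Sylow 7-subgroup. -/
def wa : List Nat := [0, 1, 3, 2]

/-- The second generator of a Sylow 7-subgroup. -/
def wb : List Nat := [4, 5, 6, 7, 6, 2, 3, 2, 6, 7, 6, 0, 1, 0, 2, 3, 2, 6, 7, 6, 4, 6, 7, 6, 2, 3, 2, 0, 1, 0, 6, 7, 6, 2, 3, 2, 6, 7, 6, 4, 5, 4, 6, 7, 6, 2, 3, 2, 6, 7, 6, 0, 1, 0, 2, 3, 2, 6, 7, 6, 5, 6, 7, 6, 2, 3, 2, 0, 1, 0, 6, 7, 6, 2, 3, 2, 6, 7, 6, 4, 5, 4]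

/-- An element of order 11. -/
def w11 : List Nat := [7, 6, 2, 13, 12, 3]

/-- An element of order 13. -/
def w13 : List Nat := [7, 1, 6, 3, 0, 2, 5, 4]

/-- An element of order 17. -/
def w17 : List Nat := [5, 2, 4, 0, 1, 3, 7, 6]

/-- An element of order 19. -/
def w19 : List Nat := [2, 1, 0, 12, 9, 10, 6, 7, 3]

/-- A word in the stabiliser outside the normaliser. -/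
def stL0 : List Nat := [0]

/-- A word outside the stabiliser. -/
def mvL0 : List Nat := [6]

/-- A word in the stabiliser outside the normaliser. -/
def stL1 : List Nat := [4]

/-- A word outside the stabiliser. -/
def mvL1 : List Nat := [6]

/-- A word in the stabiliser outside the normaliser. -/
def stL2 : List Nat := [4, 5, 4, 2, 3, 2, 6, 7, 6, 2, 3, 2, 6, 2, 3, 2, 6, 7, 6, 2, 3, 2, 6, 7, 6, 2, 3, 2, 6, 2, 3, 2, 6, 7, 6, 2, 3, 2, 6, 7, 6, 2, 3, 2, 0, 2, 3, 2, 6, 7, 6, 2, 3, 2, 6, 7, 6, 4, 5, 4, 2, 3, 2, 6, 7, 6, 0, 1, 0, 2, 3, 2, 6, 7, 6, 4, 6, 7, 6, 2, 3, 2, 0, 1, 0, 6, 7, 6, 2, 3, 2, 4, 5, 4, 6, 7, 6, 4, 5, 4, 6, 7, 6, 4, 5, 4, 2, 3, 2, 6, 7, 6, 2, 3, 2,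 0, 2, 3, 2, 6, 7, 6, 2, 3, 2, 4, 5, 4, 6, 7, 6, 4, 5, 4, 6, 7, 6, 2, 3, 2, 0, 1, 0, 6, 7, 6, 2, 3, 2, 4, 5, 4, 6, 7, 6, 2, 3, 2, 0, 1, 0, 2, 3, 2, 0, 2, 3, 2, 6, 7, 6, 0, 1, 0, 2, 3, 2, 6, 2, 3, 2, 0, 1, 0, 6, 7, 6, 4, 5, 4, 6, 7, 6, 0, 1, 0, 2, 3, 2, 6, 2, 3, 2, 0, 1, 0, 6, 7, 6, 4, 5, 4, 6, 7, 6, 2, 3, 2, 0, 2, 3, 2, 6, 7, 6, 4, 5, 4, 6, 7, 6, 2, 3, 2, 0, 2, 3, 2, 6, 7, 6, 4, 5, 4, 6, 7, 6, 4, 5, 4, 2, 3, 2, 6, 7, 6, 0, 1, 0, 2, 3, 2, 6, 7, 6, 4, 6, 7, 6, 2, 3, 2, 0, 1, 0, 6, 7, 6, 2, 3, 2, 4, 5, 4, 6, 7, 6, 4, 5, 4, 2, 3, 2, 6, 7, 6, 2, 3, 2, 0, 2, 3, 2, 6, 7, 6, 2, 3, 2, 4, 5, 4, 6, 7, 6, 4, 5, 4, 2, 3, 2, 6, 7, 6, 2, 3, 2, 0, 2, 3, 2, 6, 7, 6, 2, 3, 2, 4,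 5, 4, 6, 7, 6, 2, 3, 2, 6, 7, 6, 4, 5, 4, 2, 3, 2, 6, 7, 6, 2, 3, 2, 0, 2, 3, 2, 6, 7, 6, 2, 3, 2, 4, 5, 4, 6, 7, 6, 2, 3, 2, 0, 1, 0, 2, 3, 2, 6, 7, 6, 4, 5, 4, 2, 3, 2, 6, 7, 6, 2, 3, 2, 0, 2, 3, 2, 6, 7, 6, 2, 3, 2, 4, 5, 4, 6, 7, 6, 2, 3, 2, 0, 1, 0, 4, 5, 4, 2, 3, 2, 6, 7, 6, 2, 3, 2, 6, 2, 3, 2, 6, 7, 6, 2, 3, 2, 6, 7, 6, 2, 3, 2, 6, 2, 3, 2, 3, 2, 6, 7, 6, 2, 3, 2, 6, 7, 6, 2, 3, 2, 6, 2, 3, 2, 6, 7, 6, 2, 3, 2, 6, 7, 6, 2, 3, 2, 6, 2, 3, 2, 6, 7, 6, 4, 5, 4]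

/-- A word outside the stabiliser. -/
def mvL2 : List Nat := [0]

/-- A word in the stabiliser outside the normaliser. -/
def stL3 : List Nat := [4, 5, 4, 6, 7, 6, 2, 3, 2, 7, 6, 4, 6, 7, 6, 0, 2, 3, 2, 4, 5, 4, 2, 3, 2, 6, 7, 6, 0, 1, 0, 2, 3, 2, 6, 7, 6, 4, 6, 7, 6, 2, 3, 2, 0, 1, 0, 6, 7, 6, 2, 3, 2, 4, 5, 4, 6, 7, 6, 4, 5, 4, 6, 7, 6, 4, 5, 4, 2, 3, 2, 6, 7, 6, 2, 3, 2, 0, 2, 3, 2, 6, 7, 6, 2, 3, 2, 4, 5, 4, 6, 7, 6, 4, 5, 4, 6, 7, 6, 2, 3, 2, 0, 1, 0, 6, 7, 6, 2, 3, 2, 4, 5, 4, 6, 7, 6, 2, 3, 2, 0, 1, 6, 7, 6, 0, 1, 0, 2, 3, 2, 6, 2, 3, 2, 0, 1, 0, 6, 7, 6, 4, 5, 4, 6, 7, 6, 0, 1, 0, 2, 3, 2, 6, 2, 3, 2, 0, 1, 0, 6, 7, 6, 4, 5, 4, 6, 7, 6, 2, 3, 2, 0, 2,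 3, 2, 4, 5, 4, 2, 3, 2, 6, 7, 6, 0, 1, 0, 2, 3, 2, 6, 7, 6, 4, 6, 7, 6, 2, 3, 2, 0, 1, 0, 6, 7, 6, 2, 3, 2, 4, 5, 4, 6, 7, 6, 4, 5, 4, 2, 3, 2, 6, 7, 6, 2, 3, 2, 0, 2, 3, 2, 6, 7, 6, 2, 3, 2, 4, 5, 4, 2, 3, 2, 6, 7, 6, 4, 5, 4, 2, 3, 2, 6, 7, 6, 2, 3, 2, 0, 2, 3, 2, 6, 7, 6, 2, 3, 2, 4, 5, 4, 6, 7, 6, 2, 3, 2, 0, 1, 0, 2, 3, 2, 6, 7, 6, 4, 5, 4, 2, 3, 2, 6, 7, 6, 2, 3, 2, 0, 2, 3, 2, 6, 7, 6, 2, 3, 2, 4, 5, 4, 6, 7, 6, 2, 3, 2, 0, 1, 0, 4, 5, 4, 6, 7, 6, 2, 3, 2, 6, 2, 3, 2, 7, 6, 4, 6, 7, 6, 2, 3, 2, 6, 7, 6, 4, 5, 4]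

/-- A word outside the stabiliser. -/
def mvL3 : List Nat := [0]

/-- A word in the stabiliser outside the normaliser. -/
def stL4 : List Nat := [2, 3, 2, 6, 7, 6, 2, 3, 2, 6, 2, 3, 2, 6, 7, 6, 2, 3, 2, 4, 5, 4, 6, 7, 6, 2, 6, 7, 6, 4, 5, 4, 6, 7, 6, 2, 3, 2, 4, 5, 4, 6, 7, 6, 2, 3, 2, 0, 1, 0, 2, 3, 2, 0, 2, 3, 2, 6, 7, 6, 0, 1, 0, 2, 3, 2, 6, 2, 3, 2, 0, 1, 0, 6, 7, 6, 4, 5, 4, 6, 7, 6, 0, 1, 0, 2, 3, 2, 6, 7, 6, 4, 6, 7, 6, 2, 3, 2, 0, 1, 0, 2, 3, 2, 0, 2, 3, 2, 6, 7, 6, 4, 5, 4, 2, 6, 7, 6, 2, 3, 2, 6, 2, 3, 2, 6, 7, 6, 2, 3, 6, 7, 6, 4, 5, 4, 6, 7, 6, 2, 3, 2, 6, 2, 3, 2, 6, 7, 6, 2, 3, 2, 6, 7, 6, 2, 3, 2, 6, 7, 6, 2, 3, 2, 6, 2, 3, 2, 6, 7, 6, 2, 3, 2,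 6, 7, 6, 2, 3, 2, 6, 2, 3, 6, 7, 6, 2]

/-- A word outside the stabiliser. -/
def mvL4 : List Nat := [0]

/-- A word in the stabiliser outside the normaliser. -/
def stL5 : List Nat := [4, 5, 4, 2, 3, 2, 6, 7, 6, 2, 3, 2, 6, 2, 3, 2, 6, 7, 6, 2, 3, 2, 6, 7, 6, 2, 3, 2, 0, 2, 3, 2, 6, 7, 6, 2, 3, 2, 6, 7, 6, 2, 3, 2, 0, 2, 3, 2, 6, 7, 6, 2, 3, 2, 6, 7, 6, 4, 5, 4, 2, 3, 2, 6, 7, 6, 0, 1, 0, 2, 3, 2, 6, 7, 6, 4, 6, 7, 6, 2, 3, 2, 0, 1, 0, 6, 7, 6, 2, 3, 2, 4, 5, 4, 6, 7, 6, 4, 5, 4, 2, 3, 2, 6, 7, 6, 4, 5, 4, 2, 3, 2, 6, 7, 6, 2, 3, 2, 0, 2, 3, 2, 6, 7, 6, 2, 3, 2, 4, 5, 4, 6, 7, 6, 2, 3, 2, 4, 5, 4, 6, 7, 6, 2, 3, 2, 0, 1, 0, 6, 7, 6, 2, 3, 2, 4, 5, 4, 6, 7, 6,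 2, 3, 2, 0, 1, 2, 3, 2, 0, 2, 3, 2, 6, 7, 6, 0, 1, 0, 2, 3, 2, 6, 2, 3, 2, 0, 1, 0, 6, 7, 6, 4, 5, 4, 6, 7, 6, 0, 1, 0, 2, 3, 2, 6, 2, 3, 2, 0, 1, 0, 6, 7, 6, 4, 5, 4, 2, 3, 2, 6, 7, 6, 2, 3, 2, 0, 2, 3, 2, 6, 7, 6, 2, 3, 2, 4, 5, 4, 6, 7, 6, 2, 3, 2, 0, 2, 3, 2, 6, 7, 6, 4, 5, 4, 6, 7, 6, 4, 5, 4, 2, 3, 2, 6, 7, 6, 0, 1, 0, 2, 3, 2, 6, 7, 6, 4, 6, 7, 6, 2, 3, 2, 0, 1, 0, 2, 3, 2, 0, 2, 3, 2, 6, 7, 6, 2, 3, 2, 4, 5, 4, 6, 7, 6, 0, 1, 0, 2, 3, 2, 6, 7, 6, 4, 5, 4, 2, 3, 2, 6, 7, 6, 2, 3, 2, 0, 2, 3, 2, 6, 7, 6, 2, 3, 2, 4, 5, 4, 6, 7, 6, 2, 3, 2, 0, 1, 0, 4, 5, 4, 2, 3, 2, 6, 7, 6, 2, 3, 2, 6, 2, 3, 2, 6, 7, 6, 2, 3, 2, 6, 7, 6, 2, 3, 2, 6, 7, 6, 2, 3, 2, 6, 7,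 6, 2, 3, 2, 6, 2, 3, 2, 6, 7, 6, 2, 3, 2, 4, 5, 4]

/-- A word outside the stabiliser. -/
def mvL5 : List Nat := [0]

/-- A word in the stabiliser outside the normaliser. -/
def stL6 : List Nat := [2, 3, 2, 0, 2, 3, 2, 6, 7, 6, 0, 1, 0, 2, 3, 2, 6, 2, 3, 2, 0, 1, 0, 6, 7, 6, 4, 5, 4, 6, 7, 6, 0, 1, 0, 2, 3, 2, 6, 7, 6, 4, 6, 7, 6, 2, 3, 2, 0, 1, 0, 6, 7, 6, 4, 5, 4, 2, 3, 2, 6, 7, 6, 2, 3, 2, 0, 2, 3, 2, 6, 7, 6, 2, 3, 2, 4, 5, 4, 2, 3, 2, 6, 7, 6, 0, 1, 0, 2, 3, 2, 6, 7, 6, 4, 6, 7, 6, 2, 3, 2, 0, 1, 0, 6, 7, 6, 2, 3, 2, 6, 7, 6, 2, 3, 2, 0, 2, 3, 2, 6, 7, 6, 4, 5, 4, 6, 7, 6, 4, 5, 4, 2, 3, 2, 6, 7, 6, 0, 1, 0, 2, 3, 2, 6, 7, 6, 4, 6, 7, 6, 2, 3, 2, 0, 1, 0,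 6, 7, 6, 2, 3, 2, 4, 5, 4, 6, 7, 6, 4, 5, 4, 6, 7, 6, 4, 5, 4, 2, 3, 2, 6, 7, 6, 0, 1, 0, 2, 3, 2, 6, 7, 6, 4, 6, 7, 6, 2, 3, 2, 0, 1, 0, 6, 7, 6, 2, 3, 2, 4, 5, 4, 6, 7, 6, 4, 5, 4, 6, 7, 6, 4, 5, 4, 2, 3, 2, 6, 7, 6, 2, 3, 2, 0, 2, 3, 2, 6, 7, 6, 2, 3, 2, 4, 5, 4, 6, 7, 6, 2, 3, 2, 6, 7, 6, 4, 5, 4, 2, 3, 2, 6, 7, 6, 2, 3, 2, 0, 2, 3, 2, 6, 7, 6, 2, 3, 2, 4, 5, 4, 6, 7, 6, 2, 3, 2, 0, 1, 0, 2, 3, 2, 6, 7, 6, 2, 3, 2, 0, 1, 0, 4, 5, 4, 6, 7, 6, 2, 3, 2, 0, 1, 0, 6, 7, 6, 2, 3, 2, 4, 5, 4, 6, 7, 6, 2, 3, 2, 0, 1, 0, 2, 3, 2, 0, 2, 3, 2, 6, 7, 6, 0, 1, 0, 2, 3, 2, 6, 2, 3, 2, 0, 1, 0, 6, 7, 6, 4, 5, 4, 6, 7, 6, 0, 1, 0, 2, 3, 2, 6, 7, 6, 4, 6, 7, 6, 2, 3, 2, 0,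 1, 0, 6, 7, 6, 4, 5, 4, 2, 3, 2, 6, 7, 6, 2, 3, 2, 0, 2, 3, 2, 6, 7, 6, 2, 3, 2, 4, 5, 4, 2, 3, 2, 6, 7, 6, 0, 1, 0, 2, 3, 2, 6, 7, 6, 4, 6, 7, 6, 2, 3, 2, 0, 1, 0, 6, 7, 6, 2, 3, 2, 6, 7, 6, 2, 3, 2, 0, 2, 3, 2, 6, 7, 6, 4, 5, 4, 6, 7, 6, 4, 5, 4, 2, 3, 2, 6, 7, 6, 0, 1, 0, 2, 3, 2, 6, 7, 6, 4, 6, 7, 6, 2, 3, 2, 0, 1, 0, 6, 7, 6, 2, 3, 2, 4, 5, 4, 6, 7, 6, 4, 5, 4, 6, 7, 6, 4, 5, 4, 2, 3, 2, 6, 7, 6, 0, 1, 0, 2, 3, 2, 6, 7, 6, 4, 6, 7, 6, 2, 3, 2, 0, 1, 0, 6, 7, 6, 2, 3, 2, 4, 5, 4, 6, 7, 6, 4, 5, 4, 6, 7, 6, 4, 5, 4, 2, 3, 2, 6, 7, 6, 2, 3, 2, 0, 2, 3, 2, 6, 7, 6, 2, 3, 2, 4, 5, 4, 6, 7, 6, 2, 3, 2, 6, 7, 6, 4, 5, 4, 2, 3, 2, 6, 7, 6, 2, 3, 2, 0, 2, 3, 2, 6,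 7, 6, 2, 3, 2, 4, 5, 4, 6, 7, 6, 2, 3, 2]

/-- A word outside the stabiliser. -/
def mvL6 : List Nat := [0]

/-- A word in the stabiliser outside the normaliser. -/
def stL7 : List Nat := [0, 2, 3, 2, 0, 2, 3, 2, 6, 7, 6, 0, 1, 0, 2, 3, 2, 6, 2, 3, 2, 0, 1, 0, 6, 7, 6, 4, 5, 4, 6, 7, 6, 0, 1, 0, 2, 3, 2, 6, 7, 6, 4, 6, 7, 6, 2, 3, 2, 0, 1, 0, 6, 7, 6, 4, 5, 4, 2, 3, 2, 6, 7, 6, 2, 3, 2, 0, 2, 3, 2, 6, 7, 6, 2, 3, 2, 4, 5, 4, 2, 3, 2, 6, 7, 6, 0, 1, 0, 2, 3, 2, 6, 7, 6, 4, 6, 7, 6, 2, 3, 2, 0, 1, 0, 6, 7, 6, 2, 3, 2, 4, 5, 4, 6, 7, 6, 4, 5, 4, 2, 3, 2, 6, 7, 6, 0, 1, 0, 2, 3, 2, 6, 7, 6, 4, 6, 7, 6, 2, 3, 2, 0, 1, 0, 6, 7, 6, 2, 3, 2, 4, 5, 4, 6, 7, 6, 4, 5, 4,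 2, 3, 2, 6, 7, 6, 2, 3, 2, 0, 2, 3, 2, 6, 7, 6, 2, 3, 2, 4, 5, 4, 2, 3, 2, 6, 7, 6, 4, 5, 4, 2, 3, 2, 6, 7, 6, 2, 3, 2, 0, 2, 3, 2, 6, 7, 6, 2, 3, 2, 4, 5, 4, 6, 7, 6, 2, 3, 2, 0, 1, 0, 2, 3, 2, 6, 7, 6, 2, 3, 2, 0, 1, 0, 4, 5, 4, 6, 7, 6, 2, 3, 2, 0, 1, 0, 6, 7, 6, 2, 3, 2, 4, 5, 4, 6, 7, 6, 2, 3, 2, 0, 1, 2, 3, 2, 0, 2, 3, 2, 6, 7, 6, 0, 1, 0, 2, 3, 2, 6, 2, 3, 2, 0, 1, 0, 6, 7, 6, 4, 5, 4, 6, 7, 6, 0, 1, 0, 2, 3, 2, 6, 7, 6, 4, 6, 7, 6, 2, 3, 2, 0, 1, 0, 6, 7, 6, 4, 5, 4, 2, 3, 2, 6, 7, 6, 2, 3, 2, 0, 2, 3, 2, 6, 7, 6, 2, 3, 2, 4, 5, 4, 2, 3, 2, 6, 7, 6, 0, 1, 0, 2, 3, 2, 6, 7, 6, 4, 6, 7, 6, 2, 3, 2, 0, 1, 0, 6, 7, 6, 2, 3, 2, 4, 5, 4, 6, 7, 6, 4, 5, 4, 2,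 3, 2, 6, 7, 6, 0, 1, 0, 2, 3, 2, 6, 7, 6, 4, 6, 7, 6, 2, 3, 2, 0, 1, 0, 6, 7, 6, 2, 3, 2, 4, 5, 4, 6, 7, 6, 4, 5, 4, 2, 3, 2, 6, 7, 6, 2, 3, 2, 0, 2, 3, 2, 6, 7, 6, 2, 3, 2, 4, 5, 4, 2, 3, 2, 6, 7, 6, 4, 5, 4, 2, 3, 2, 6, 7, 6, 2, 3, 2, 0, 2, 3, 2, 6, 7, 6, 2, 3, 2, 4, 5, 4, 6, 7, 6, 2, 3, 2, 0, 1, 0, 2, 3, 2, 6, 7, 6, 4, 5, 4, 2, 3, 2, 6, 7, 6, 2, 3, 2, 0, 2, 3, 2, 6, 7, 6, 2, 3, 2, 4, 5, 4, 6, 7, 6, 2, 3, 2, 0, 1, 0]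

/-- A word outside the stabiliser. -/
def mvL7 : List Nat := [0]

/-- A word in the stabiliser outside the normaliser. -/
def st11 : List Nat := [2]

/-- A word outside the stabiliser. -/
def mv11 : List Nat := [0]

/-- A word in the stabiliser outside the normaliser. -/
def stS : List Nat := [0]

/-- A word outside the stabiliser. -/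
def mvS : List Nat := [4]

/-- A word in the stabiliser outside the normaliser. -/
def st13 : List Nat := [10, 15, 0, 6, 2, 5, 9, 11, 5, 15, 2, 15, 5, 11, 9, 5, 2, 6, 0, 15, 10]

/-- A word outside the stabiliser. -/
def mv13 : List Nat := [0]

/-- A word in the stabiliser outside the normaliser. -/
def st17 : List Nat := [11, 12, 2, 15, 0, 2, 3, 15, 7, 13, 5, 9, 2, 1, 11, 8, 7, 10, 12, 9, 13, 7, 5, 8, 4, 6, 2, 5, 8, 13, 1, 6, 1, 6, 1, 13, 8, 5, 2, 6, 4, 8, 5, 7, 13, 9, 12, 10, 7, 8, 11, 1, 2, 9, 5, 13, 7, 15, 3, 2, 0, 15, 2, 12, 11]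

/-- A word outside the stabiliser. -/
def mv17 : List Nat := [0]

/-- A word in the stabiliser outside the normaliser. -/
def st19 : List Nat := [2, 6, 7, 6, 2, 3, 2, 10, 2, 3, 2, 6, 7, 6, 4, 5, 4, 6, 7, 6, 2, 3, 2, 14, 2, 3, 2, 6, 7, 6, 4, 5, 4, 6, 7, 6, 2, 6, 7, 6, 4, 5, 4, 6, 7, 6, 2, 3, 2, 6, 7, 6, 8, 6, 7, 6, 2, 3, 2, 6, 7, 6, 4, 5, 4, 2, 3, 2, 6, 7, 6, 2, 3, 2, 0, 2, 3, 2, 6, 7, 6, 2, 3, 2, 4, 5, 4, 6, 7, 6, 2, 6, 7, 6, 2, 3, 2, 6, 7, 6, 0, 1, 0, 2, 3, 2, 6, 7, 6, 12, 6, 7, 6, 2, 3, 2, 0, 1, 0, 6, 7, 6, 2, 3, 2, 4, 5, 4, 6, 7, 6, 4, 5, 4, 2, 3, 2, 6, 7, 6, 0, 1, 0, 2, 3, 2, 6, 7, 6, 4, 6, 7, 6, 2, 3, 2, 0, 1, 0, 6, 7, 6, 2, 3, 2, 4, 5, 4, 6, 7, 6, 4, 5,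 4, 2, 3, 2, 6, 7, 6, 2, 3, 2, 0, 2, 3, 2, 6, 7, 6, 2, 3, 2, 6, 7, 6, 4, 5, 4, 2, 3, 2, 6, 7, 6, 0, 1, 0, 2, 3, 2, 6, 7, 6, 12, 6, 7, 6, 2, 3, 2, 0, 1, 0, 6, 7, 6, 2, 3, 2, 4, 5, 4, 6, 7, 6, 4, 5, 4, 6, 7, 6, 4, 5, 4, 2, 3, 2, 6, 7, 6, 2, 3, 2, 0, 2, 3, 2, 6, 7, 6, 2, 3, 2, 4, 5, 4, 6, 7, 6, 0, 1, 0, 2, 3, 2, 6, 7, 6, 4, 5, 4, 2, 3, 2, 6, 7, 6, 2, 3, 2, 0, 2, 3, 2, 6, 7, 6, 2, 3, 2, 4, 5, 4, 6, 7, 6, 2, 3, 2, 0, 1, 0, 2, 3, 2, 6, 7, 6, 2, 3, 2, 0, 1, 0, 4, 5, 4, 6, 7, 6, 2, 3, 2, 0, 1, 0, 6, 7, 6, 2, 3, 2, 4, 5, 4, 6, 7, 6, 2, 3, 2, 0, 1, 2, 3, 2, 0, 2, 3, 2, 6, 7, 6, 0, 1, 0, 2, 3, 2, 14, 2, 3, 2, 0, 1, 0, 6, 7, 6, 4, 5, 4, 6, 7, 6, 0, 1, 0, 2, 3, 2, 10, 2, 3,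 2, 0, 1, 0, 6, 7, 6, 4, 5, 4, 2, 3, 2, 6, 7, 6, 2, 3, 2, 0, 2, 3, 2, 6, 7, 6, 2, 3, 2, 4, 5, 4, 2, 3, 2, 6, 7, 6, 0, 1, 0, 2, 3, 2, 6, 7, 6, 4, 6, 7, 6, 2, 3, 2, 0, 1, 0, 6, 7, 6, 2, 3, 2, 4, 5, 4, 6, 7, 6, 4, 5, 4, 2, 3, 2, 6, 7, 6, 0, 1, 0, 2, 3, 2, 6, 7, 6, 8, 6, 7, 6, 2, 3, 2, 0, 1, 0, 6, 7, 6, 2, 3, 2, 4, 5, 4, 6, 7, 6, 4, 5, 4, 6, 7, 6, 4, 5, 4, 2, 3, 2, 6, 7, 6, 0, 1, 0, 2, 3, 2, 6, 7, 6, 4, 6, 7, 6, 2, 3, 2, 0, 1, 0, 6, 7, 6, 2, 3, 2, 4, 5, 4, 6, 7, 6, 4, 5, 4, 6, 7, 6, 4, 5, 4, 2, 3, 2, 6, 7, 6, 2, 3, 2, 0, 2, 3, 2, 6, 7, 6, 2, 3, 2, 4, 5, 4, 6, 7, 6, 2, 3, 2, 6, 7, 6, 4, 5, 4, 2, 3, 2, 6, 7, 6, 2, 3, 2, 0, 2, 3, 2, 6, 7, 6, 2, 3, 2, 4, 5, 4, 6, 7, 6,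 2, 3, 2, 0, 1, 0, 2, 3, 2, 6, 7, 6, 4, 5, 4, 2, 3, 2, 6, 7, 6, 2, 3, 2, 0, 2, 3, 2, 6, 7, 6, 2, 3, 2, 4, 5, 4, 6, 7, 6, 2, 3, 2, 0, 1, 0, 4, 5, 4, 6, 7, 6, 2, 3, 2, 6, 2, 3, 2, 6, 7, 6, 4, 5, 4, 2, 3, 2, 6, 7, 6, 4, 5, 4, 6, 7, 6, 4, 5, 4, 2, 3, 2, 6, 7, 6, 2, 3, 2, 6, 2, 3, 2, 6, 7, 6, 2, 3, 2, 4, 5, 4, 6, 7, 6, 4, 5, 4, 2, 3, 2, 6, 7, 6, 2, 3, 2, 6, 2, 3, 2, 6, 7, 6, 2, 3, 2, 6, 7, 6, 2, 3, 2, 10, 6, 7, 6, 12, 6, 7, 6, 2, 3, 2, 6, 7, 6, 4, 5, 4, 2, 6, 7, 6, 2, 3, 2, 14, 2, 3, 2, 6, 7, 6, 2, 3, 2, 6, 7, 6, 2, 3, 2, 6, 7, 6, 2, 3, 2, 6, 2, 3, 2, 6, 7, 6, 2, 3, 2, 6, 7, 6, 2, 3, 2, 6, 2, 3, 2, 6, 7, 6, 3, 6, 7, 6, 10, 15, 10]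

/-- A word outside the stabiliser. -/
def mv19 : List Nat := [0]

end H60.Local
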