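import Cfsg.Agent.H60.Local.Check
import Cfsg.Agent.H60.Local.DataW
import Cfsg.Agent.H60.Local.Data11

/-!
Kernel certificate of a fixed space.
-/

set_option autoImplicit false
set_option maxRecDepth 100000

namespace H60.Local

open H60.TE6

theorem cert11 : fixB w11 11 G11 C11 Q11 W11 st11 mv11 = true := by
  decide +kernel

end H60.Local
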