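import Cfsg.Agent.H60.Local.Check
import Cfsg.Agent.H60.Local.DataW
import Cfsg.Agent.H60.Local.Data13

/-!
Kernel certificate for the elements of order 13.
-/

set_option autoImplicit false
set_option maxRecDepth 100000

namespace H60.Local

open H60.TE6

theorem cert13_pow : (powB w13 13 PW13 && ordB w13 13 && nrmB w13 13 st13) = true := by decide +kernel

theorem cert13a : levelB 13 12 PW13 Q13a U13a 7 idY idY T13a W13a = true := by decide +kernel

theorem cert13b : levelB 13 12 PW13 Q13b U13b 5 (idY ^^^ Q13a) (idY ^^^ Q13a) T13b W13b = true := by
  decide +kernel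

theorem cert13_stab : (stabB Q13b st13 && moveB Q13b mv13) = true := by decide +kernel

end H60.Local
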