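import Cfsg.Agent.H60.Local.Check
import Cfsg.Agent.H60.Local.DataW
import Cfsg.Agent.H60.Local.Data17

/-!
Kernel certificate for the elements of order 17.
-/

set_option autoImplicit false
set_option maxRecDepth 100000

namespace H60.Local

open H60.TE6

theorem cert17_pow : (powB w17 17 PW17 && ordB w17 17 && nrmB w17 17 st17) = true := by decide +kernel

theorem cert17a : levelB 17 16 PW17 Q17a U17a 6 idY idY T17a W17a = true := by decide +kernel

theorem cert17b : levelB 17 11 PW17 Q17b U17b 4 (idY ^^^ Q17a) idY T17b W17b = true := by
  decide +kernel

theorem cert17_stab : (stabB Q17b st17 && moveB Q17b mv17) = true := by decide +kernel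

end H60.Local
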