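import Cfsg.Agent.H60.Local.Check
import Cfsg.Agent.H60.Local.DataW
import Cfsg.Agent.H60.Local.Data19

/-!
Kernel certificate for the elements of order 19.
-/

set_option autoImplicit false
set_option maxRecDepth 100000

namespace H60.Local

open H60.TE6

theorem cert19_pow : (powB w19 19 PW19 && ordB w19 19 && nrmB w19 19 st19) = true := by decide +kernel

theorem cert19a : levelB 19 14 PW19 Q19a U19a 6 idY idY T19a W19a = true := by decide +kernel

theorem cert19_stab : (stabB Q19a st19 && moveB Q19a mv19) = true := by decide +kernel

end H60.Local
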