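import Cfsg.Agent.H60.Local.Check
import Cfsg.Agent.H60.Local.DataW
import Cfsg.Agent.H60.Local.DataL2

/-!
Kernel certificate of a fixed space.
-/

set_option autoImplicit false
set_option maxRecDepth 100000

namespace H60.Local

open H60.TE6

theorem certL2 : fixB (wrep wa 1 ++ wb) 7 GL2 CL2 QL2 WL2 stL2 mvL2 = true := by
  decide +kernel

end H60.Local
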