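import Cfsg.Agent.H60.Local.Check
import Cfsg.Agent.H60.Local.DataW
import Cfsg.Agent.H60.Local.DataL4

/-!
Kernel certificate of a fixed space.
-/

set_option autoImplicit false
set_option maxRecDepth 100000

namespace H60.Local

open H60.TE6

theorem certL4 : fixB (wrep wa 3 ++ wb) 7 GL4 CL4 QL4 WL4 stL4 mvL4 = true := by
  decide +kernel

end H60.Local
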