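import Cfsg.Agent.H60.Local.Check
import Cfsg.Agent.H60.Local.DataW
import Cfsg.Agent.H60.Local.DataS
import Cfsg.Agent.H60.Local.DataL1
import Cfsg.Agent.H60.Local.DataL2
import Cfsg.Agent.H60.Local.DataL3
import Cfsg.Agent.H60.Local.DataL5

/-!
Kernel certificate of the Sylow 7-subgroup.
-/

set_option autoImplicit false
set_option maxRecDepth 100000

namespace H60.Local

open H60.TE6

theorem certS_kill : ([GL1, GL2, GL3, GL5].all fun G => fixKillB QS G) = true := by decide +kernel

theorem certS_wit : fixWitB QS [GL1, GL2, GL3, GL5] WS = true := by decide +kernel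

theorem certS_stab : (stabB QS stS && moveB QS mvS) = true := by decide +kernel

theorem certS_comm : Nat.beq (gM (wa ++ wb)) (gM (wb ++ wa)) = true := by decide +kernel

/-- The element of a pair of exponents. -/
def sM (i j : ℕ) : ℕ := gM (wrep wa i ++ wrep wb j)

theorem certS_inj : ((List.range 7).all fun i => (List.range 7).all fun j =>
    (i == 0 && j == 0) || !sameB (sM i j) idY) = true := by decide +kernel

theorem certS_nrm : ((List.range 7).all fun i => (List.range 7).all fun j =>
    !sameB (evL (lw stS) (gM wa)) (evL (lw (wrep wa i ++ wrep wb j)) (gM stS))) = true := by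
  decide +kernel

/-- The pairs of exponents on the four lines of trace one. -/
def lineOK (i j : ℕ) : Bool := [0, 1, 2, 4].any fun s => i % 7 == s * j % 7 && j % 7 != 0

theorem certS_trace : ((List.range 7).all fun i => (List.range 7).all fun j =>
    Nat.beq (trM (sM i j)) (bif lineOK i j then 1 else 0)) = true := by decide +kernel

end H60.Local
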