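import Cfsg.Agent.H60.Local.Bracket

/-!
The checks of the certificates on packed matrices.
-/

set_option autoImplicit false
set_option maxRecDepth 100000

namespace H60.Local

open Cfsg.Lie H52 H60.TE6

/-- The matrix of a word in letters. -/
def gM (l : List ℕ) : ℕ := evL (lw l) idY

/-- The sum of the first powers of a word. -/
def fsum (l : List ℕ) : ℕ → ℕ
  | 0 => idY
  | n + 1 => idY ^^^ evL (lw l) (fsum l n)

/-- The sum of packed matrices. -/
def xsum : List ℕ → ℕ
  | [] => 0
  | a :: L => a ^^^ xsum L

/-- A generating matrix of a fixed space. -/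
def fixSpanB (l : List ℕ) (p G C : ℕ) : Bool :=
  Nat.beq (fsum l (p - 1)) (mulM G C) && Nat.beq (evL (lw l) G) G

/-- The columns from a bound on vanish. -/
def colsB (U n : ℕ) : Bool :=
  (List.range 78).all fun k => decide (k < n) || (List.range 78).all fun z => Nat.beq (ent U z k) 0

/-- The brackets of a fixed space are killed. -/
def fixKillB (Q G : ℕ) : Bool :=
  colsB G 18 && (List.range 18).all fun a => Nat.beq (mulM Q (mulM (adM G a) G)) 0

/-- The complement of a kernel comes from brackets of fixed spaces. -/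
def fixWitB (Q : ℕ) (Gs : List ℕ) (wit : List (ℕ × ℕ × ℕ)) : Bool :=
  Nat.beq (idY ^^^ Q)
    (xsum (wit.map fun e => mulM (mulM (adM (Gs.getD e.1 0) e.2.1) (Gs.getD e.1 0)) e.2.2))

/-- The list of powers of a word. -/
def powB (l : List ℕ) (p : ℕ) (PW : List ℕ) : Bool :=
  Nat.beq (PW.getD 0 0) idY && Nat.beq (evL (lw l) (PW.getD (p - 1) 0)) idY &&
    (List.range (p - 1)).all fun i => Nat.beq (evL (lw l) (PW.getD i 0)) (PW.getD (i + 1) 0)

/-- The matrix of a scaled sum of brackets with one column. -/
def aM (p c : ℕ) (PW : List ℕ) (U k : ℕ) : ℕ :=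
  xsum ((List.range p).map fun i => mulM (adM (mulM (PW.getD i 0) U) k) (PW.getD (c * i % p) 0))

/-- A matrix is spanned by the translates of few columns. -/
def genB (PW : List ℕ) (p U R : ℕ) (Cs : List ℕ) : Bool :=
  Nat.beq R (xsum ((List.range p).map fun i => mulM (mulM (PW.getD i 0) U) (Cs.getD i 0)))

/-- The scaled brackets of the generating columns are killed. -/
def phiKillB (p c : ℕ) (PW : List ℕ) (Q U n R : ℕ) : Bool :=
  (List.range n).all fun k => Nat.beq (mulM Q (mulM (aM p c PW U k) R)) 0

/-- The complement of a kernel comes from scaled brackets. -/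
def phiWitB (p c : ℕ) (PW : List ℕ) (Q R R' : ℕ) (wit : List (ℕ × ℕ)) : Bool :=
  Nat.beq (idY ^^^ Q) (xsum (wit.map fun e => mulM (mulM (aM p c PW R e.1) R') e.2))

/-- A word maps a kernel into itself. -/
def stabB (Q : ℕ) (h : List ℕ) : Bool :=
  Nat.beq (mulM Q (mulM (gM h) (idY ^^^ Q))) 0

/-- A word moves a kernel. -/
def moveB (Q : ℕ) (g : List ℕ) : Bool :=
  !sameB (mulM Q (mulM (gM g) (idY ^^^ Q))) 0

/-- A word of order dividing the exponent and different from one. -/
def ordB (l : List ℕ) (p : ℕ) : Bool := oneB (wrep l p) && !sameB (gM l) idY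

/-- A word does not normalise the cyclic group of another. -/
def nrmB (l : List ℕ) (p : ℕ) (h : List ℕ) : Bool :=
  (List.range p).all fun i =>
    !sameB (evL (lw h) (gM l)) (evL (lw (wrep l i)) (gM h))

/-- All checks for the fixed space of one element. -/
def fixB (l : List ℕ) (p G C Q : ℕ) (W : List (ℕ × ℕ × ℕ)) (h g : List ℕ) : Bool :=
  ordB l p && nrmB l p h && fixSpanB l p G C && fixKillB Q G && fixWitB Q [G] W &&
    stabB Q h && moveB Q g

/-- All checks of one level of scaled brackets. -/
def levelB (p c : ℕ) (PW : List ℕ) (Q U n R R' : ℕ) (Cs : List ℕ) (W : List (ℕ × ℕ)) : Bool :=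
  colsB U n && genB PW p U R Cs && phiKillB p c PW Q U n R' && phiWitB p c PW Q R R' W

/-- The trace of a packed matrix, as a code. -/
def trM (Y : ℕ) : ℕ := (List.range 78).foldr (fun i acc => ent Y i i ^^^ acc) 0

end H60.Local
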