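import Cfsg.Agent.H60.Local.Cert0

/-!
The bracket is invariant under ²E₆(2).
-/

set_option autoImplicit false
set_option maxRecDepth 100000

namespace H60.Local

open Cfsg.Lie H52 H60.TE6

variable {K : Type*} [Field K] [Fintype K] [CharP K 2] {w : K} (hw : w * w = w + 1)
  (hK : Fintype.card K = 4)

include hw hK

theorem exists_code (t : K) : ∃ c < 4, val w c = t := by
  classical
  have himg : (Finset.range 4).image (fun c => val w c) = Finset.univ := by
    apply Finset.eq_univ_of_card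
    rw [hK, Finset.card_image_of_injOn, Finset.card_range]
    intro a ha b hb h
    exact ent_inj hw (Finset.mem_range.1 (Finset.mem_coe.1 ha)) (Finset.mem_range.1 (Finset.mem_coe.1 hb)) h
  obtain ⟨c, hc, e⟩ := Finset.mem_image.1 (himg ▸ Finset.mem_univ t)
  exact ⟨c, Finset.mem_range.1 hc, e⟩

omit hw hK [CharP K 2] [Fintype K] in
theorem eqv_one : Eqv w (1 : Matrix chevE6.Idx chevE6.Idx K) := fun u => by
  rw [one_mul, mul_one, Matrix.one_mulVec]

omit hw hK [CharP K 2] [Fintype K] in
theorem eqv_mul {g h : Matrix chevE6.Idx chevE6.Idx K} (hg : Eqv w g) (hh : Eqv w h) :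
    Eqv w (g * h) := fun u => by
  rw [mul_assoc, hh u, ← mul_assoc, hg, mul_assoc, Matrix.mulVec_mulVec]

omit hw hK [CharP K 2] [Fintype K] in
theorem roots_pos : ∀ r ∈ roots, ∃ i < 12, rootAt i = r := by decide +kernel

theorem eqv_root {r : ℕ} (hr : r ∈ roots) (t : K) : Eqv w (chevE6.x K r t) := by
  obtain ⟨c, hc, rfl⟩ := exists_code hw hK t
  obtain ⟨i, hi', rfl⟩ := roots_pos r hr
  have h1 := eqv_step hw hi' (t := 1) (by norm_num) (eqv_ok i hi').1
  have h2 := eqv_step hw hi' (t := 2) (by norm_num) (eqv_ok i hi').2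
  obtain ⟨v0, v1, v2, v3⟩ := val_vals w
  interval_cases c
  · rw [v0, checkedE6.x_zero]
    exact eqv_one
  · exact h1
  · exact h2
  · rw [v3, ← checkedE6.x_mul_x]
    rw [v1] at h1; rw [v2] at h2
    exact eqv_mul h1 h2

omit hw hK [CharP K 2] [Fintype K] in
theorem word_roots : ∀ r ∈ [e6p2, e6m2, e6p4, e6m4, e6p1, e6p6, e6m1, e6m6, e6p3, e6p5, e6m3, e6m5],
    r ∈ roots := by decide +kernel

/-- Every element of ²E₆(2) commutes with the bracket. -/
theorem eqv_mem {g : GL chevE6.Idx K} (hg : g ∈ twistedE6 K 2) :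
    Eqv w (g : Matrix chevE6.Idx chevE6.Idx K) := by
  induction hg using Subgroup.closure_induction with
  | mem g hgm =>
    obtain ⟨wd, hwd, e⟩ := hgm
    rw [e]
    rcases hwd with ⟨t, -, r, hr, rfl⟩ | ⟨t, rs, hrs, rfl⟩
    · have hr' : r ∈ roots := word_roots r (by simp only [List.mem_cons, List.not_mem_nil, or_false] at hr ⊢; tauto)
      simpa [ChevalleyDatum.wordMat] using eqv_root hw hK hr' t
    · have h1 : rs.1 ∈ roots ∧ rs.2 ∈ roots := by
        simp only [List.mem_cons, List.not_mem_nil, or_false] at hrs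
        rcases hrs with rfl | rfl | rfl | rfl <;>
          exact ⟨word_roots _ (by simp), word_roots _ (by simp)⟩
      simpa [ChevalleyDatum.wordMat] using eqv_mul (eqv_root hw hK h1.1 t) (eqv_root hw hK h1.2 (t ^ 2))
  | one => exact eqv_one
  | mul a b _ _ ha hb => exact eqv_mul ha hb
  | inv a _ ha =>
    intro u
    have h := ha ((↑a⁻¹ : Matrix chevE6.Idx chevE6.Idx K).mulVec u)
    rw [Matrix.mulVec_mulVec, Units.mul_inv, Matrix.one_mulVec] at h
    calc (↑a⁻¹ : Matrix chevE6.Idx chevE6.Idx K) * adK w u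
        = ↑a⁻¹ * (adK w u * ↑a) * ↑a⁻¹ := by
          rw [mul_assoc (↑a⁻¹ : Matrix chevE6.Idx chevE6.Idx K), mul_assoc (adK w u), Units.mul_inv, mul_one]
      _ = _ := by
          rw [← h, ← mul_assoc, Units.inv_mul, one_mul]

end H60.Local
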