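import Mathlib

/-!
Subspaces attached to cyclic or abelian subgroups by an invariant product, and their stabilisers.
-/

set_option autoImplicit false

namespace H60.Local

open Matrix

section Coatom

variable {G : Type*} [Group G]

theorem not_isCoatom_of_mid {N M : Subgroup G} (hle : N ≤ M) {h g : G} (hh : h ∈ M) (hN : h ∉ N)
    (hg : g ∉ M) : ¬ IsCoatom N := fun hc => by
  rcases eq_or_lt_of_le hle with e | e
  · exact hN (e ▸ hh)
  · exact hg (hc.2 M e ▸ Subgroup.mem_top g)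

end Coatom

variable {K : Type*} [Field K] {n : Type*} [Fintype n] [DecidableEq n]
variable {G : Type*} [Group G]

/-- The image of a submodule under a group element, through a representation. -/
def imS (ρ : G →* Matrix n n K) (g : G) (W : Submodule K (n → K)) : Submodule K (n → K) :=
  W.map (ρ g).mulVecLin

theorem imS_mul (ρ : G →* Matrix n n K) (g h : G) (W : Submodule K (n → K)) :
    imS ρ (g * h) W = imS ρ g (imS ρ h W) := by
  rw [imS, map_mul, Matrix.mulVecLin_mul, Submodule.map_comp]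
  rfl

theorem imS_one (ρ : G →* Matrix n n K) (W : Submodule K (n → K)) : imS ρ 1 W = W := by
  rw [imS, map_one, Matrix.mulVecLin_one, Submodule.map_id]

/-- The stabiliser of a submodule. -/
def stabS (ρ : G →* Matrix n n K) (W : Submodule K (n → K)) : Subgroup G where
  carrier := {g | imS ρ g W = W}
  one_mem' := imS_one ρ W
  mul_mem' {a b} ha hb := by
    show imS ρ (a * b) W = W
    rw [imS_mul, hb, ha]
  inv_mem' {a} ha := by
    show imS ρ a⁻¹ W = W
    conv_lhs => rw [← show imS ρ a W = W from ha, ← imS_mul, inv_mul_cancel, imS_one]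

theorem mulVec_inj (ρ : G →* Matrix n n K) (g : G) : Function.Injective (ρ g).mulVecLin := by
  intro u v e
  have := congrArg (ρ g⁻¹).mulVec e
  simpa [Matrix.mulVec_mulVec, ← map_mul] using this

theorem mem_stabS {ρ : G →* Matrix n n K} {W : Submodule K (n → K)} {g : G}
    (h : ∀ x ∈ W, (ρ g).mulVec x ∈ W) : g ∈ stabS ρ W := by
  show imS ρ g W = W
  refine Submodule.eq_of_le_of_finrank_eq ?_ ?_
  · rintro _ ⟨x, hx, rfl⟩
    exact h x hx
  · exact (Submodule.equivMapOfInjective _ (mulVec_inj ρ g) W).finrank_eq.symm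

theorem of_mem_stabS {ρ : G →* Matrix n n K} {W : Submodule K (n → K)} {g : G}
    (h : g ∈ stabS ρ W) {x : n → K} (hx : x ∈ W) : (ρ g).mulVec x ∈ W := by
  have e : imS ρ g W = W := h
  rw [← e]
  exact ⟨x, hx, rfl⟩

/-- A subspace given by generators and by a matrix. -/
theorem eq_ker_of_cert [CharP K 2] {W : Submodule K (n → K)} {Q : Matrix n n K}
    (hkill : ∀ x ∈ W, Q.mulVec x = 0) (hR : ∀ v, (1 + Q).mulVec v ∈ W) :
    ∀ x, x ∈ W ↔ Q.mulVec x = 0 := by
  refine fun x => ⟨hkill x, fun h => ?_⟩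
  have := hR x
  rwa [Matrix.add_mulVec, Matrix.one_mulVec, h, add_zero] at this

variable (B : (n → K) → (n → K) → (n → K))

/-- The span of the products of common fixed vectors of the members of a set. -/
def fixW (ρ : G →* Matrix n n K) (T : Set G) : Submodule K (n → K) :=
  Submodule.span K
    {z | ∃ y ∈ T, ∃ u v, (ρ y).mulVec u = u ∧ (ρ y).mulVec v = v ∧ z = B u v}

theorem fixW_le_stab (ρ : G →* Matrix n n K)
    (hB : ∀ g u v, (ρ g).mulVec (B u v) = B ((ρ g).mulVec u) ((ρ g).mulVec v))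
    (T : Set G) {g : G} (hT : ∀ y ∈ T, g * y * g⁻¹ ∈ T) : g ∈ stabS ρ (fixW B ρ T) := by
  refine mem_stabS fun x hx => ?_
  have hle : fixW B ρ T ≤ (fixW B ρ T).comap (ρ g).mulVecLin := by
    refine Submodule.span_le.2 ?_
    rintro _ ⟨y, hy, u, v, hu, hv, rfl⟩
    show (ρ g).mulVec (B u v) ∈ fixW B ρ T
    rw [hB]
    have conj : ∀ a, (ρ y).mulVec a = a →
        (ρ (g * y * g⁻¹)).mulVec ((ρ g).mulVec a) = (ρ g).mulVec a := by
      intro a ha
      rw [Matrix.mulVec_mulVec, ← map_mul, inv_mul_cancel_right, map_mul, ← Matrix.mulVec_mulVec, ha]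
    exact Submodule.subset_span ⟨_, hT y hy, _, _, conj u hu, conj v hv, rfl⟩
  exact hle hx

/-- The scaled sum of products along the powers of an element. -/
def phi (ρ : G →* Matrix n n K) (p : ℕ) [NeZero p] (x : G) (c : ZMod p) (u v : n → K) : n → K :=
  ∑ i : ZMod p, B ((ρ (x ^ i.val)).mulVec u) ((ρ (x ^ (c * i).val)).mulVec v)

/-- The span of the scaled sums. -/
def phiW (ρ : G →* Matrix n n K) (p : ℕ) [NeZero p] (x : G) (c : ZMod p)
    (A A' : Submodule K (n → K)) : Submodule K (n → K) :=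
  Submodule.span K {z | ∃ u ∈ A, ∃ v ∈ A', z = phi B ρ p x c u v}

omit [Fintype n] [DecidableEq n] in
theorem pow_zval {p : ℕ} [NeZero p] {x : G} (hx : x ^ p = 1) (a : ℕ) :
    x ^ (a : ZMod p).val = x ^ a := by
  rw [ZMod.val_natCast, ← pow_eq_pow_mod a hx]

omit [Fintype n] [DecidableEq n] in
theorem pow_zval_mul {p : ℕ} [NeZero p] {x : G} (hx : x ^ p = 1) (k : ℕ) (i : ZMod p) :
    x ^ ((k : ZMod p) * i).val = (x ^ k) ^ i.val := by
  rw [← pow_mul, ← pow_zval hx (k * i.val), Nat.cast_mul, ZMod.natCast_zmod_val]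

omit [Fintype n] [DecidableEq n] in
theorem pow_zval_add {p : ℕ} [NeZero p] {x : G} (hx : x ^ p = 1) (i j : ZMod p) :
    x ^ (i + j).val = x ^ i.val * x ^ j.val := by
  rw [← pow_add, ← pow_zval hx (i.val + j.val), Nat.cast_add, ZMod.natCast_zmod_val,
    ZMod.natCast_zmod_val]

omit [Fintype n] [DecidableEq n] in
theorem pow_semi {g x : G} {k : ℕ} (hg : g * x * g⁻¹ = x ^ k) (a : ℕ) :
    g * x ^ a = (x ^ k) ^ a * g := by
  have h : SemiconjBy g x (x ^ k) := by
    show g * x = x ^ k * g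
    rw [← hg, inv_mul_cancel_right]
  exact h.pow_right a

theorem phiW_le_stab (ρ : G →* Matrix n n K)
    (hB : ∀ g u v, (ρ g).mulVec (B u v) = B ((ρ g).mulVec u) ((ρ g).mulVec v))
    {p : ℕ} [hp : Fact p.Prime] {x : G} (hx : x ^ p = 1) (c : ZMod p)
    {A A' : Submodule K (n → K)} {g : G} {k : ℕ} (hg : g * x * g⁻¹ = x ^ k)
    (hk : (k : ZMod p) ≠ 0) (hA : g ∈ stabS ρ A) (hA' : g ∈ stabS ρ A') :
    g ∈ stabS ρ (phiW B ρ p x c A A') := by
  refine mem_stabS fun z hz => ?_
  have hle : phiW B ρ p x c A A' ≤ (phiW B ρ p x c A A').comap (ρ g).mulVecLin := by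
    refine Submodule.span_le.2 ?_
    rintro _ ⟨u, hu, v, hv, rfl⟩
    show (ρ g).mulVec (phi B ρ p x c u v) ∈ phiW B ρ p x c A A'
    refine Submodule.subset_span ⟨_, of_mem_stabS hA hu, _, of_mem_stabS hA' hv, ?_⟩
    rw [phi, Matrix.mulVec_sum, phi]
    refine Fintype.sum_equiv (Equiv.mulLeft₀ (k : ZMod p) hk) _ _ fun i => ?_
    simp only [Equiv.mulLeft₀_apply]
    rw [hB, Matrix.mulVec_mulVec, Matrix.mulVec_mulVec, Matrix.mulVec_mulVec, Matrix.mulVec_mulVec,
      ← map_mul, ← map_mul, ← map_mul, ← map_mul, pow_semi hg, pow_semi hg,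
      ← pow_zval_mul hx, ← pow_zval_mul hx, mul_left_comm]
  exact hle hz

theorem phi_shift (ρ : G →* Matrix n n K) {p : ℕ} [NeZero p] {x : G} (hx : x ^ p = 1)
    (c : ZMod p) (j : ZMod p) (u v : n → K) :
    phi B ρ p x c ((ρ (x ^ j.val)).mulVec u) v =
      phi B ρ p x c u ((ρ (x ^ (-(c * j)).val)).mulVec v) := by
  rw [phi, phi]
  refine Fintype.sum_equiv (Equiv.addRight j) _ _ fun i => ?_
  simp only [Equiv.coe_addRight]
  rw [Matrix.mulVec_mulVec, Matrix.mulVec_mulVec, ← map_mul, ← map_mul, ← pow_zval_add hx,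
    ← pow_zval_add hx]
  congr 3
  ring_nf

end H60.Local
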