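import Cfsg.Agent.H60.Local.Equivariant
import Cfsg.Agent.H60.Local.Check
import Cfsg.Agent.H60.Local.Span

/-!
The meaning of the checks of the certificates.
-/

set_option autoImplicit false
set_option maxRecDepth 100000

namespace H60.Local

open Cfsg.Lie H52 H60.TE6 Matrix

attribute [local irreducible] step idY delta scale mulM adM scM colMask lowMask

variable {K : Type*} [Field K]

/-- The representation of ²E₆(2). -/
def rho : ↥(twistedE6 K 2) →* Matrix chevE6.Idx chevE6.Idx K :=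
  (Units.coeHom _).comp (twistedE6 K 2).subtype

variable [CharP K 2] {w : K} (hw : w * w = w + 1)

include hw

theorem toK_xsum : ∀ L : List ℕ, toK w (xsum L) = (L.map (toK w)).sum
  | [] => by simp [xsum, toK_zero]
  | a :: L => by rw [xsum, toK_xor hw, toK_xsum L, List.map_cons, List.sum_cons]

theorem toK_evL {l : List ℕ} (hl : ∀ k ∈ l, k < 16) (Y : ℕ) :
    toK w (evL (lw l) Y) = rho (⟨el w (lw l), el_mem hw hl⟩ : ↥(twistedE6 K 2)) * toK w Y :=
  evL_toK hw _ (lw_small hl) Y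

/-- The element of a word in letters. -/
noncomputable def gel {l : List ℕ} (hl : ∀ k ∈ l, k < 16) : ↥(twistedE6 K 2) :=
  ⟨el w (lw l), el_mem hw hl⟩

theorem toK_gM {l : List ℕ} (hl : ∀ k ∈ l, k < 16) : toK w (gM l) = rho (gel hw hl) := by
  rw [gM, toK_evL hw hl, toK_idY, mul_one, gel]

omit hw in
theorem wrep_lt {l : List ℕ} (hl : ∀ k ∈ l, k < 16) (n : ℕ) : ∀ k ∈ wrep l n, k < 16 :=
  wrep_small hl n

omit hw in
theorem append_lt {l l' : List ℕ} (hl : ∀ k ∈ l, k < 16) (hl' : ∀ k ∈ l', k < 16) :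
    ∀ k ∈ l ++ l', k < 16 := by
  intro k hk
  rcases List.mem_append.1 hk with h | h
  exacts [hl k h, hl' k h]

theorem gel_append {l l' : List ℕ} (hl : ∀ k ∈ l, k < 16) (hl' : ∀ k ∈ l', k < 16) :
    gel hw (append_lt hl hl') = gel hw hl * gel hw hl' :=
  Subtype.ext (el_lw_append l l')

theorem gel_wrep {l : List ℕ} (hl : ∀ k ∈ l, k < 16) (n : ℕ) :
    gel hw (wrep_lt hl n) = gel hw hl ^ n :=
  Subtype.ext ((el_lw_wrep l n).trans (SubmonoidClass.coe_pow (gel hw hl) n).symm)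

theorem gel_ne_one {l : List ℕ} (hl : ∀ k ∈ l, k < 16) (h : (!sameB (gM l) idY) = true) :
    gel hw hl ≠ 1 := fun e => el_ne_one hw hl h (congrArg Subtype.val e)

theorem gel_pow_one {l : List ℕ} (hl : ∀ k ∈ l, k < 16) {p : ℕ} (h : oneB (wrep l p) = true) :
    gel hw hl ^ p = 1 := by
  rw [← gel_wrep]
  exact Subtype.ext (el_one hw (wrep_lt hl p) h)

theorem order_gel {l : List ℕ} (hl : ∀ k ∈ l, k < 16) {p : ℕ} [Fact p.Prime]
    (h : ordB l p = true) : orderOf (gel hw hl) = p := by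
  simp only [ordB, Bool.and_eq_true] at h
  exact orderOf_eq_prime (gel_pow_one hw hl h.1) (gel_ne_one hw hl h.2)

theorem toK_zero_of_beq {X : ℕ} (h : Nat.beq X 0 = true) : toK w X = 0 := by
  rw [Nat.eq_of_beq_eq_true h, toK_zero]

theorem toK_comp (Q : ℕ) : toK w (idY ^^^ Q) = 1 + toK w Q := by rw [toK_xor hw, toK_idY]

theorem gel_stab {Q : ℕ} {h : List ℕ} (hh : ∀ k ∈ h, k < 16) (hs : stabB Q h = true)
    {W : Submodule K (chevE6.Idx → K)} (hW : ∀ x, x ∈ W ↔ (toK w Q).mulVec x = 0) :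
    gel hw hh ∈ stabS rho W := by
  refine mem_stabS fun x hx => (hW _).2 ?_
  have e := toK_zero_of_beq hw hs
  rw [toK_mulM hw, toK_mulM hw, toK_comp hw, toK_gM hw hh] at e
  have hx' : (1 + toK w Q).mulVec x = x := by
    rw [Matrix.add_mulVec, Matrix.one_mulVec, (hW x).1 hx, add_zero]
  conv_lhs => rw [← hx']
  rw [Matrix.mulVec_mulVec, Matrix.mulVec_mulVec, mul_assoc, e, Matrix.zero_mulVec]

theorem gel_move {Q : ℕ} {g : List ℕ} (hg : ∀ k ∈ g, k < 16) (hs : moveB Q g = true)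
    {W : Submodule K (chevE6.Idx → K)} (hW : ∀ x, x ∈ W ↔ (toK w Q).mulVec x = 0)
    (hR : ∀ v, (1 + toK w Q).mulVec v ∈ W) : gel hw hg ∉ stabS rho W := by
  intro hmem
  have e := ne_of_sameB hw hs
  rw [toK_mulM hw, toK_mulM hw, toK_comp hw, toK_gM hw hg, toK_zero] at e
  refine e ?_
  refine Matrix.ext fun i j => ?_
  have h := congrFun ((hW _).1 (of_mem_stabS hmem (hR (Pi.single j 1)))) i
  rwa [Matrix.mulVec_mulVec, Matrix.mulVec_mulVec, mul_assoc, Matrix.mulVec_single_one] at h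

omit hw [CharP K 2] in
theorem col_eq_mulVec (w : K) (G : ℕ) (z : chevE6.Idx) :
    colK w G (code chevE6 z) = (toK w G).mulVec (Pi.single z 1) := (colK_mulVec G z).symm

omit hw [CharP K 2] in
theorem mulVec_eq_sum (M : Matrix chevE6.Idx chevE6.Idx K) (c : chevE6.Idx → K) :
    M.mulVec c = ∑ z, c z • M.mulVec (Pi.single z 1) := by
  have hc : c = ∑ z, c z • (Pi.single z (1 : K) : chevE6.Idx → K) := by
    ext y
    simp [Finset.sum_apply, Pi.single_apply, eq_comm]
  conv_lhs => rw [hc, Matrix.mulVec_sum]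
  simp [Matrix.mulVec_smul]

omit hw [CharP K 2] in
theorem br_sum_left (w : K) {ι : Type*} (s : Finset ι) (f : ι → chevE6.Idx → K)
    (v : chevE6.Idx → K) : br w (∑ i ∈ s, f i) v = ∑ i ∈ s, br w (f i) v := by
  simp only [br, adK_sum, Matrix.sum_mulVec]

omit hw [CharP K 2] in
theorem br_smul_left (w : K) (c : K) (u v : chevE6.Idx → K) : br w (c • u) v = c • br w u v := by
  simp only [br, adK_smul, Matrix.smul_mulVec]

/-! ### Fixed spaces -/

theorem fsum_fix {l : List ℕ} (hl : ∀ k ∈ l, k < 16) {u : chevE6.Idx → K}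
    (hu : (rho (gel hw hl)).mulVec u = u) :
    ∀ n, (toK w (fsum l n)).mulVec u = ((n + 1 : ℕ) : K) • u
  | 0 => by simp [fsum, toK_idY]
  | n + 1 => by
    rw [fsum, toK_xor hw, toK_idY, toK_evL hw hl, Matrix.add_mulVec, Matrix.one_mulVec,
      ← Matrix.mulVec_mulVec, fsum_fix hl hu n, Matrix.mulVec_smul]
    show u + _ • (rho (gel hw hl)).mulVec u = _
    rw [hu, Nat.cast_succ (n + 1), add_smul, one_smul, add_comm]

theorem fix_range {l : List ℕ} (hl : ∀ k ∈ l, k < 16) {p G C : ℕ} (hp : p % 2 = 1)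
    (h : fixSpanB l p G C = true) {u : chevE6.Idx → K} (hu : (rho (gel hw hl)).mulVec u = u) :
    ∃ c, (toK w G).mulVec c = u := by
  simp only [fixSpanB, Bool.and_eq_true] at h
  refine ⟨(toK w C).mulVec u, ?_⟩
  rw [Matrix.mulVec_mulVec, ← toK_mulM hw, ← Nat.eq_of_beq_eq_true h.1, fsum_fix hw hl hu,
    show p - 1 + 1 = p by omega]
  obtain ⟨m, rfl⟩ : ∃ m, p = 2 * m + 1 := ⟨p / 2, by omega⟩
  simp [CharTwo.two_eq_zero]

theorem fix_cols {l : List ℕ} (hl : ∀ k ∈ l, k < 16) {p G C : ℕ}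
    (h : fixSpanB l p G C = true) : rho (gel hw hl) * toK w G = toK w G := by
  simp only [fixSpanB, Bool.and_eq_true] at h
  have e := congrArg (toK w) (Nat.eq_of_beq_eq_true h.2)
  rwa [toK_evL hw hl] at e

theorem col_zero {U n : ℕ} (h : colsB U n = true) {z : chevE6.Idx} (hn : ¬ code chevE6 z < n) :
    (toK w U).mulVec (Pi.single z 1) = 0 := by
  simp only [colsB, List.all_eq_true, List.mem_range, Bool.or_eq_true, decide_eq_true_eq] at h
  rw [← col_eq_mulVec]
  ext y
  have e := Nat.eq_of_beq_eq_true ((h _ (code_lt z)).resolve_left hn _ (code_lt y))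
  show rv w (rowOf U (code chevE6 y)) (code chevE6 z) = _
  rw [← val_rent, show rent _ _ = ent U (code chevE6 y) (code chevE6 z) from rfl, e,
    (val_vals w).1]
  rfl

theorem fix_kill {Q G : ℕ} (h : fixKillB Q G = true) (c d : chevE6.Idx → K) :
    (toK w Q).mulVec (br w ((toK w G).mulVec c) ((toK w G).mulVec d)) = 0 := by
  simp only [fixKillB, Bool.and_eq_true, List.all_eq_true, List.mem_range] at h
  obtain ⟨hcols, h⟩ := h
  rw [mulVec_eq_sum (toK w G) c, br_sum_left, Matrix.mulVec_sum]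
  refine Finset.sum_eq_zero fun z _ => ?_
  by_cases hz : code chevE6 z < 18
  swap
  · rw [br_smul_left, col_zero hw hcols hz]
    simp [br, adK]
  have e := toK_zero_of_beq hw (h _ hz)
  rw [toK_mulM hw, toK_mulM hw, toK_adM hw, col_eq_mulVec] at e
  rw [br_smul_left, Matrix.mulVec_smul, br, Matrix.mulVec_mulVec, Matrix.mulVec_mulVec, mul_assoc, e,
    Matrix.zero_mulVec, smul_zero]

theorem fix_wit {Q : ℕ} {Gs : List ℕ} {wit : List (ℕ × ℕ × ℕ)} (h : fixWitB Q Gs wit = true)
    (T : Set ↥(twistedE6 K 2))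
    (hT : ∀ e ∈ wit, e.2.1 < 78 ∧ ∃ y ∈ T, rho y * toK w (Gs.getD e.1 0) = toK w (Gs.getD e.1 0))
    (v : chevE6.Idx → K) : (1 + toK w Q).mulVec v ∈ fixW (br w) rho T := by
  rw [← toK_comp hw, Nat.eq_of_beq_eq_true h, toK_xsum hw, List.map_map]
  clear h
  induction wit with
  | nil => simp
  | cons e L ih =>
    rw [List.map_cons, List.sum_cons, Matrix.add_mulVec]
    refine Submodule.add_mem _ ?_ (ih fun q hq => hT q (List.mem_cons_of_mem _ hq))
    obtain ⟨ha, y, hy, hfix⟩ := hT e List.mem_cons_self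
    obtain ⟨z, hz⟩ := code_onto _ ha
    simp only [Function.comp_apply]
    rw [toK_mulM hw, toK_mulM hw, toK_adM hw, ← hz, col_eq_mulVec, ← Matrix.mulVec_mulVec,
      ← Matrix.mulVec_mulVec]
    refine Submodule.subset_span ⟨y, hy, _, _, ?_, ?_, rfl⟩ <;>
      rw [Matrix.mulVec_mulVec, hfix]

/-! ### Scaled brackets -/

theorem pw_toK {l : List ℕ} (hl : ∀ k ∈ l, k < 16) {p : ℕ} {PW : List ℕ} (h : powB l p PW = true) :
    ∀ i < p, toK w (PW.getD i 0) = rho (gel hw hl ^ i) := by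
  simp only [powB, Bool.and_eq_true, List.all_eq_true, List.mem_range] at h
  intro i
  induction i with
  | zero => intro _; rw [Nat.eq_of_beq_eq_true h.1.1, toK_idY, pow_zero, map_one]
  | succ i ih =>
    intro hi
    rw [← Nat.eq_of_beq_eq_true (h.2 i (by omega)), toK_evL hw hl, ih (by omega), pow_succ',
      map_mul]
    rfl

omit hw [CharP K 2] in
theorem sum_zmod {p : ℕ} [NeZero p] {M : Type*} [AddCommMonoid M] (f : ℕ → M) :
    ∑ i : ZMod p, f i.val = ((List.range p).map f).sum := by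
  rw [← List.sum_toFinset _ List.nodup_range, List.toFinset_range]
  exact Finset.sum_nbij' ZMod.val (fun i => (i : ZMod p))
    (fun a _ => Finset.mem_range.2 (ZMod.val_lt a)) (fun a _ => Finset.mem_univ _)
    (fun a _ => ZMod.natCast_zmod_val a)
    (fun a ha => ZMod.val_cast_of_lt (Finset.mem_range.1 ha)) (fun a _ => rfl)

variable {l : List ℕ} (hl : ∀ k ∈ l, k < 16) {p : ℕ} [Fact p.Prime] {PW : List ℕ}
  (hPW : powB l p PW = true) (c : ℕ)

include hPW

theorem gel_pow_zero : gel hw hl ^ p = 1 := by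
  have hp : 0 < p := (Fact.out : p.Prime).pos
  have h := pw_toK hw hl hPW (p - 1) (by omega)
  simp only [powB, Bool.and_eq_true] at hPW
  have e := congrArg (toK w) (Nat.eq_of_beq_eq_true hPW.1.2)
  rw [toK_evL hw hl, toK_idY, h] at e
  apply Subtype.ext; apply Units.ext
  rw [show gel hw hl ^ p = gel hw hl * gel hw hl ^ (p - 1) by rw [← pow_succ', Nat.sub_add_cancel hp]]
  exact (map_mul rho _ _).trans e

theorem aM_phi (U : ℕ) (z : chevE6.Idx) (v : chevE6.Idx → K) :
    (toK w (aM p c PW U (code chevE6 z))).mulVec v =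
      phi (br w) rho p (gel hw hl) (c : ZMod p) ((toK w U).mulVec (Pi.single z 1)) v := by
  have key : ∀ i : ZMod p, toK w (mulM (adM (mulM (PW.getD i.val 0) U) (code chevE6 z))
      (PW.getD (c * i.val % p) 0)) =
      adK w ((rho (gel hw hl ^ i.val)).mulVec ((toK w U).mulVec (Pi.single z 1))) *
        rho (gel hw hl ^ ((c : ZMod p) * i).val) := by
    intro i
    have hv : ((c : ZMod p) * i).val = c * i.val % p := by
      conv_lhs => rw [← ZMod.natCast_zmod_val i, ← Nat.cast_mul, ZMod.val_natCast]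
    rw [toK_mulM hw, toK_adM hw, col_eq_mulVec, toK_mulM hw,
      pw_toK hw hl hPW _ (ZMod.val_lt i), pw_toK hw hl hPW _ (hv ▸ ZMod.val_lt _), hv,
      Matrix.mulVec_mulVec]
  rw [aM, toK_xsum hw, List.map_map, ← sum_zmod, Matrix.sum_mulVec, phi]
  refine Finset.sum_congr rfl fun i _ => ?_
  simp only [Function.comp_apply]
  rw [key, br, ← Matrix.mulVec_mulVec]

omit hPW in
theorem phi_sum_left {ι : Type*} (s : Finset ι) (x : ↥(twistedE6 K 2)) (f : ι → chevE6.Idx → K)
    (v : chevE6.Idx → K) : phi (br w) rho p x (c : ZMod p) (∑ i ∈ s, f i) v =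
      ∑ i ∈ s, phi (br w) rho p x (c : ZMod p) (f i) v := by
  simp only [phi, Matrix.mulVec_sum, br_sum_left]
  exact Finset.sum_comm

omit hPW in
theorem phi_smul_left (x : ↥(twistedE6 K 2)) (a : K) (u v : chevE6.Idx → K) :
    phi (br w) rho p x (c : ZMod p) (a • u) v = a • phi (br w) rho p x (c : ZMod p) u v := by
  simp only [phi, Matrix.mulVec_smul, br_smul_left, Finset.smul_sum]

/-- One level of scaled brackets is the kernel of its map. -/
theorem level_ker {Q U n R R' : ℕ} {Cs : List ℕ} {W : List (ℕ × ℕ)}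
    (h : levelB p c PW Q U n R R' Cs W = true) (hW : ∀ e ∈ W, e.1 < 78)
    (hst : gel hw hl ∈ stabS rho (LinearMap.range (toK w R').mulVecLin)) :
    (∀ z, z ∈ phiW (br w) rho p (gel hw hl) (c : ZMod p) (LinearMap.range (toK w R).mulVecLin)
        (LinearMap.range (toK w R').mulVecLin) ↔ (toK w Q).mulVec z = 0) ∧
      ∀ v, (1 + toK w Q).mulVec v ∈ phiW (br w) rho p (gel hw hl) (c : ZMod p)
        (LinearMap.range (toK w R).mulVecLin) (LinearMap.range (toK w R').mulVecLin) := by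
  simp only [levelB, Bool.and_eq_true] at h
  obtain ⟨⟨⟨hcols, hgen⟩, hkill⟩, hwit⟩ := h
  set A := LinearMap.range (toK w R).mulVecLin
  set A' := LinearMap.range (toK w R').mulVecLin
  have hR : ∀ v, (1 + toK w Q).mulVec v ∈ phiW (br w) rho p (gel hw hl) (c : ZMod p) A A' := by
    intro v
    rw [phiWitB] at hwit
    rw [← toK_comp hw, Nat.eq_of_beq_eq_true hwit, toK_xsum hw, List.map_map]
    clear hwit
    induction W with
    | nil => simp
    | cons e L ih =>
      rw [List.map_cons, List.sum_cons, Matrix.add_mulVec]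
      refine Submodule.add_mem _ ?_ (ih fun q hq => hW q (List.mem_cons_of_mem _ hq))
      obtain ⟨z, hz⟩ := code_onto _ (hW e List.mem_cons_self)
      simp only [Function.comp_apply]
      rw [toK_mulM hw, toK_mulM hw, ← hz, ← Matrix.mulVec_mulVec, ← Matrix.mulVec_mulVec,
        aM_phi hw hl hPW]
      exact Submodule.subset_span ⟨_, ⟨_, rfl⟩, _, ⟨_, rfl⟩, rfl⟩
  refine ⟨eq_ker_of_cert ?_ hR, hR⟩
  intro z hz
  refine (Submodule.span_le (p := LinearMap.ker (toK w Q).mulVecLin)).2 ?_ hz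
  rintro _ ⟨u, ⟨d, rfl⟩, v, hv, rfl⟩
  show (toK w Q).mulVec _ = 0
  rw [genB] at hgen
  have hg : toK w R = ∑ i : ZMod p, rho (gel hw hl ^ i.val) * toK w U * toK w (Cs.getD i.val 0) := by
    rw [Nat.eq_of_beq_eq_true hgen, toK_xsum hw, List.map_map, ← sum_zmod]
    refine Finset.sum_congr rfl fun i _ => ?_
    simp only [Function.comp_apply]
    rw [toK_mulM hw, toK_mulM hw, pw_toK hw hl hPW _ (ZMod.val_lt i)]
  rw [Matrix.mulVecLin_apply, hg, Matrix.sum_mulVec, phi_sum_left hw, Matrix.mulVec_sum]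
  refine Finset.sum_eq_zero fun i _ => ?_
  rw [← Matrix.mulVec_mulVec, ← Matrix.mulVec_mulVec,
    phi_shift (br w) rho (gel_pow_zero hw hl hPW) (c : ZMod p) i]
  obtain ⟨v', hv'⟩ : ∃ v', (toK w R').mulVec v' =
      (rho (gel hw hl ^ (-((c : ZMod p) * i)).val)).mulVec v := of_mem_stabS (pow_mem hst _) hv
  rw [← hv', mulVec_eq_sum (toK w U), phi_sum_left hw, Matrix.mulVec_sum]
  refine Finset.sum_eq_zero fun z _ => ?_
  rw [phi_smul_left hw, Matrix.mulVec_smul]
  by_cases hn : code chevE6 z < n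
  · simp only [phiKillB, List.all_eq_true, List.mem_range] at hkill
    have e := toK_zero_of_beq hw (hkill _ hn)
    rw [toK_mulM hw, toK_mulM hw] at e
    rw [← aM_phi hw hl hPW, Matrix.mulVec_mulVec, Matrix.mulVec_mulVec, mul_assoc, e,
      Matrix.zero_mulVec, smul_zero]
  · have hc0 := col_zero hw hcols hn
    simp [hc0, phi, br, adK]

end H60.Local
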