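import Cfsg.Agent.H60.Local.Seven
import Cfsg.Agent.H60.Local.Cert11
import Cfsg.Agent.H60.Local.Cert13
import Cfsg.Agent.H60.Local.Cert17
import Cfsg.Agent.H60.Local.Cert19
import Cfsg.Agent.H52.TwistOrderE6

/-!
No local subgroup of ²E₆(2) for a prime above five is maximal.
-/

set_option autoImplicit false
set_option maxRecDepth 100000

namespace H60.Local

open Cfsg.Lie H52 H60.TE6

section Group

variable {G : Type*} [Group G]

theorem not_coatom_of_map {P : Subgroup G} (g : G)
    (h : ¬ IsCoatom (Subgroup.normalizer ((P.map (MulAut.conj g).toMonoidHom : Subgroup G) : Set G))) :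
    ¬ IsCoatom (Subgroup.normalizer (P : Set G)) := by
  intro hc
  apply h
  rw [← Subgroup.map_equiv_normalizer_eq]
  exact (OrderIso.isCoatom_iff (MulEquiv.mapSubgroup (MulAut.conj g)) _).2 hc

theorem exists_conj_le [Finite G] {p : ℕ} [Fact p.Prime] {P : Subgroup G} (hP : IsPGroup p P)
    (R : Subgroup G) (hR : Nat.card R = p ^ (Nat.card G).factorization p) :
    ∃ g : G, P.map (MulAut.conj g).toMonoidHom ≤ R := by
  obtain ⟨Q, hQ⟩ := hP.exists_le_sylow
  obtain ⟨g, hg⟩ := MulAction.exists_smul_eq G Q (Sylow.ofCard R hR)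
  refine ⟨g, le_trans (Subgroup.map_mono hQ) (le_of_eq ?_)⟩
  have e := congrArg (fun S : Sylow p G => (S : Subgroup G)) hg
  exact e

theorem eq_zpowers [Finite G] {p : ℕ} [Fact p.Prime] {Q : Subgroup G} {x : G} (ho : orderOf x = p)
    (hQ : Q ≤ Subgroup.zpowers x) (hQ1 : Q ≠ ⊥) : Q = Subgroup.zpowers x := by
  refine Subgroup.eq_of_le_of_card_ge hQ ?_
  rw [Nat.card_zpowers, ho]
  have h := Subgroup.card_dvd_of_le hQ
  rw [Nat.card_zpowers, ho] at h
  rcases (Nat.dvd_prime (Fact.out : p.Prime)).1 h with h | h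
  · exact absurd (Subgroup.card_eq_one.1 h) hQ1
  · rw [h]

theorem factorization_of_eq {n p a m : ℕ} (hp : p.Prime) (h : n = p ^ a * m) (hm : ¬ p ∣ m) :
    n.factorization p = a := by
  subst h
  rw [Nat.factorization_mul (pow_ne_zero _ hp.ne_zero) (fun h => hm (by simp [h])),
    Nat.Prime.factorization_pow hp, Finsupp.add_apply, Finsupp.single_eq_same,
    Nat.factorization_eq_zero_of_not_dvd hm, add_zero]

end Group

theorem st_phi_lt : (∀ l ∈ [w11, st11, mv11, w13, st13, mv13, w17, st17, mv17, w19, st19, mv19],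
    ∀ k ∈ l, k < 16) ∧ (∀ e ∈ W11, e.1 = 0 ∧ e.2.1 < 78) ∧
    (∀ W ∈ [W13a, W13b, W17a, W17b, W19a], ∀ e ∈ W, e.1 < 78) := by decide +kernel

variable {K : Type*} [Field K] [Fintype K]

theorem card_te6 (hK : Fintype.card K = 4) :
    Nat.card ↥(twistedE6 K 2) = 76532479683774853939200 := by
  have h := e6t_card (K := K) (q := 2) Nat.prime_two.isPrimePow hK
  norm_num at h
  omega

theorem order_prime (hK : Fintype.card K = 4) {p : ℕ} (hp : p.Prime) (h5 : 5 < p)
    {P : Subgroup ↥(twistedE6 K 2)} (hP : IsPGroup p P) (hP1 : P ≠ ⊥) :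
    p = 7 ∨ p = 11 ∨ p = 13 ∨ p = 17 ∨ p = 19 := by
  haveI := Fact.mk hp
  obtain ⟨n, hn⟩ := IsPGroup.iff_card.1 hP
  have hn0 : n ≠ 0 := by
    rintro rfl
    exact hP1 (Subgroup.card_eq_one.1 (by simpa using hn))
  have hd : p ∣ Nat.card ↥(twistedE6 K 2) :=
    dvd_trans (by rw [hn]; exact dvd_pow_self p hn0) (Subgroup.card_subgroup_dvd_card P)
  rw [card_te6 hK, show (76532479683774853939200 : ℕ) =
    2 ^ 36 * 3 ^ 9 * 5 ^ 2 * 7 ^ 2 * 11 * 13 * 17 * 19 by norm_num] at hd
  have key : ∀ a k : ℕ, a.Prime → p ∣ a ^ k → p = a := fun a k ha h =>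
    (Nat.prime_dvd_prime_iff_eq hp ha).1 (hp.dvd_of_dvd_pow h)
  have key' : ∀ a : ℕ, a.Prime → p ∣ a → p = a := fun a ha h =>
    (Nat.prime_dvd_prime_iff_eq hp ha).1 h
  rcases hp.dvd_mul.1 hd with hd | hd
  · rcases hp.dvd_mul.1 hd with hd | hd
    · rcases hp.dvd_mul.1 hd with hd | hd
      · rcases hp.dvd_mul.1 hd with hd | hd
        · rcases hp.dvd_mul.1 hd with hd | hd
          · rcases hp.dvd_mul.1 hd with hd | hd
            · rcases hp.dvd_mul.1 hd with hd | hd
              · have := key 2 36 (by norm_num) hd; omega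
              · have := key 3 9 (by norm_num) hd; omega
            · have := key 5 2 (by norm_num) hd; omega
          · exact Or.inl (key 7 2 (by norm_num) hd)
        · exact Or.inr (Or.inl (key' 11 (by norm_num) hd))
      · exact Or.inr (Or.inr (Or.inl (key' 13 (by norm_num) hd)))
    · exact Or.inr (Or.inr (Or.inr (Or.inl (key' 17 (by norm_num) hd))))
  · exact Or.inr (Or.inr (Or.inr (Or.inr (key' 19 (by norm_num) hd))))

/-- No `p`-local subgroup of ²E₆(2) with `p > 5` is maximal. -/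
theorem no_local (hK : Fintype.card K = 4) {p : ℕ} (hp : p.Prime) (h5 : 5 < p)
    {P : Subgroup ↥(twistedE6 K 2)} (hP : IsPGroup p P) (hP1 : P ≠ ⊥) :
    ¬ IsCoatom (Subgroup.normalizer (P : Set ↥(twistedE6 K 2))) := by
  obtain ⟨_, w, hw⟩ := exists_cube_root hK
  haveI := Fact.mk hp
  have hc := card_te6 (K := K) hK
  obtain ⟨hL, hW11, hW⟩ := st_phi_lt
  have main : ∀ (l : List ℕ) (hl : ∀ k ∈ l, k < 16), ordB l p = true →
      Nat.card ↥(twistedE6 K 2) = p ^ 1 * (76532479683774853939200 / p) →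
      ¬ p ∣ 76532479683774853939200 / p →
      ¬ IsCoatom (Subgroup.normalizer
        ((Subgroup.zpowers (gel hw hl) : Subgroup _) : Set ↥(twistedE6 K 2))) →
      ¬ IsCoatom (Subgroup.normalizer (P : Set ↥(twistedE6 K 2))) := by
    intro l hl ho he hm hnc
    have hor := order_gel hw hl ho
    obtain ⟨g, hg⟩ := exists_conj_le hP (Subgroup.zpowers (gel hw hl)) (by
      rw [Nat.card_zpowers, hor, factorization_of_eq hp he hm, pow_one])
    refine not_coatom_of_map g ?_
    rw [eq_zpowers hor hg ((Subgroup.map_eq_bot_iff_of_injective (f := (MulAut.conj g).toMonoidHom) P (MulAut.conj g).injective).not.2 hP1)]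
    exact hnc
  rcases order_prime hK hp h5 hP hP1 with rfl | rfl | rfl | rfl | rfl
  · obtain ⟨g, hg⟩ := exists_conj_le hP (sylS hw) (by
      rw [card_sylS hw, factorization_of_eq (a := 2) hp
        (show Nat.card ↥(twistedE6 K 2) = 7 ^ 2 * 1561887340485201100800 by rw [hc]; norm_num) (by norm_num)]
      norm_num)
    refine not_coatom_of_map g ?_
    set Q := P.map (MulAut.conj g).toMonoidHom with hQ
    have hQ1 : Q ≠ ⊥ :=
      (Subgroup.map_eq_bot_iff_of_injective (f := (MulAut.conj g).toMonoidHom) P (MulAut.conj g).injective).not.2 hP1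
    by_cases hS : Q = sylS hw
    · rw [hS]; exact nc_sylS hw hK
    obtain ⟨z, hz, hz1⟩ := (Subgroup.nontrivial_iff_exists_ne_one Q).1
      ((Subgroup.nontrivial_iff_ne_bot Q).2 hQ1)
    suffices e : Q = Subgroup.zpowers z by rw [e]; exact nc_seven hw hK (hg hz) hz1
    have hd := Subgroup.card_dvd_of_le hg
    rw [card_sylS hw, show (49 : ℕ) = 7 ^ 2 by norm_num] at hd
    obtain ⟨k, hk2, hk⟩ := (Nat.dvd_prime_pow hp).1 hd
    have hzQ : Subgroup.zpowers z ≤ Q := Subgroup.zpowers_le.2 hz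
    have hdz := Subgroup.card_dvd_of_le hzQ
    rw [Nat.card_zpowers, hk] at hdz
    obtain ⟨j, hj, hjz⟩ := (Nat.dvd_prime_pow hp).1 hdz
    have hj0 : j ≠ 0 := by
      rintro rfl
      exact hz1 (orderOf_eq_one_iff.1 (by simpa using hjz))
    interval_cases k
    · omega
    · refine (Subgroup.eq_of_le_of_card_ge hzQ ?_).symm
      rw [Nat.card_zpowers, hjz, hk, show j = 1 by omega]
    · exact absurd (Subgroup.eq_of_le_of_card_ge hg (by rw [card_sylS hw, hk]; norm_num)) hS
  · have h := cert11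
    simp only [fixB, Bool.and_eq_true] at h
    exact main w11 (hL w11 (by simp)) h.1.1.1.1.1.1 (by rw [hc]; norm_num) (by norm_num)
      (nc_fix hw hK (by norm_num) _ (hL st11 (by simp)) (hL mv11 (by simp)) hW11 cert11)
  · have h := cert13_pow
    simp only [Bool.and_eq_true] at h
    exact main w13 (hL w13 (by simp)) h.1.2 (by rw [hc]; norm_num) (by norm_num)
      (nc_two hw hK (c := 12) (c' := 12) _ (hL st13 (by simp)) (hL mv13 (by simp))
        (hW W13a (by simp)) (hW W13b (by simp)) cert13_pow cert13a (Or.inr rfl) cert13b cert13_stab)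
  · have h := cert17_pow
    simp only [Bool.and_eq_true] at h
    exact main w17 (hL w17 (by simp)) h.1.2 (by rw [hc]; norm_num) (by norm_num)
      (nc_two hw hK (c := 16) (c' := 11) _ (hL st17 (by simp)) (hL mv17 (by simp))
        (hW W17a (by simp)) (hW W17b (by simp)) cert17_pow cert17a (Or.inl rfl) cert17b cert17_stab)
  · have h := cert19_pow
    simp only [Bool.and_eq_true] at h
    exact main w19 (hL w19 (by simp)) h.1.2 (by rw [hc]; norm_num) (by norm_num)
      (nc_one hw hK (c := 14) _ (hL st19 (by simp)) (hL mv19 (by simp))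
        (hW W19a (by simp)) cert19_pow cert19a cert19_stab)

end H60.Local
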