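import Cfsg.Agent.H60.TE6.Basic
import Cfsg.Agent.H60.Local.Masks

/-!
Products and scalar multiples of packed matrices over the field with four elements.
-/

set_option autoImplicit false
set_option maxRecDepth 100000

namespace H60.Local

open Cfsg.Lie H52 H60.TE6

/-- The bits of one column of both planes times one row. -/
def mulT (A B k : ℕ) : ℕ :=
  ((A >>> k) &&& colMask) * rowOf B k ^^^ ((A >>> (78 + k)) &&& colMask) * scale 2 (rowOf B k)

/-- The product of two packed matrices. -/
def mulM (A B : ℕ) : ℕ := (List.range 78).foldr (fun k acc => mulT A B k ^^^ acc) 0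

/-- The low plane of a matrix. -/
def loP (Y : ℕ) : ℕ := Y &&& lowMask

/-- The high plane of a matrix, moved down. -/
def hiP (Y : ℕ) : ℕ := (Y >>> 78) &&& lowMask

/-- A matrix times a scalar. -/
def scM (c Y : ℕ) : ℕ :=
  match c with
  | 1 => Y
  | 2 => hiP Y ^^^ ((loP Y ^^^ hiP Y) <<< 78)
  | 3 => (loP Y ^^^ hiP Y) ^^^ (loP Y <<< 78)
  | _ => 0

/-- Agreement with a boolean pattern at the places below a bound. -/
def maskB (M : ℕ) (f : ℕ → Bool) (n : ℕ) : Bool := (List.range n).all fun i => M.testBit i == f i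

theorem colMask_ok : (maskB colMask (fun n => n % 156 == 0) (156 * 78)) = true := by decide +kernel

theorem colMask_lt : (colMask >>> (156 * 78) == 0) = true := by decide +kernel

theorem lowMask_ok : (maskB lowMask (fun n => decide (n % 156 < 78)) (156 * 78)) = true := by
  decide +kernel

theorem lowMask_lt : (lowMask >>> (156 * 78) == 0) = true := by decide +kernel

theorem testBit_mask {M : ℕ} {f : ℕ → Bool} {N : ℕ} (h : maskB M f N = true)
    (hlt : (M >>> N == 0) = true) (n : ℕ) : M.testBit n = (decide (n < N) && f n) := by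
  by_cases hn : n < N
  · simp only [hn, decide_true, Bool.true_and]
    simp only [maskB, List.all_eq_true, List.mem_range, beq_iff_eq] at h
    exact h n hn
  · simp only [hn, decide_false, Bool.false_and]
    have e := congrArg (fun m => m.testBit (n - N)) (beq_iff_eq.1 hlt)
    simp only [Nat.testBit_shiftRight, Nat.zero_testBit] at e
    rwa [show N + (n - N) = n by omega] at e

theorem colMask_bit (n : ℕ) :
    colMask.testBit n = (decide (n < 156 * 78) && (n % 156 == 0)) :=
  testBit_mask colMask_ok colMask_lt n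

theorem lowMask_bit (n : ℕ) :
    lowMask.testBit n = (decide (n < 156 * 78) && decide (n % 156 < 78)) :=
  testBit_mask lowMask_ok lowMask_lt n

attribute [local irreducible] colMask lowMask

/-- Products of a column of bits and a row have no carries. -/
theorem mul_bit {R : ℕ} (hR : R < 2 ^ 156) :
    ∀ (r M : ℕ), (∀ n, n % 156 ≠ 0 → M.testBit n = false) → ∀ j < 156,
      (M * R).testBit (156 * r + j) = (M.testBit (156 * r) && R.testBit j) := by
  intro r
  induction r with
  | zero =>
    intro M hM j hj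
    have hb : M % 2 ^ 156 = (M.testBit 0).toNat := by
      apply Nat.eq_of_testBit_eq
      intro i
      rw [Nat.testBit_mod_two_pow]
      rcases Nat.eq_zero_or_pos i with rfl | hi
      · cases M.testBit 0 <;> simp
      · by_cases h : i < 156
        · rw [hM i (by rw [Nat.mod_eq_of_lt h]; omega)]
          cases M.testBit 0 <;> simp [Nat.testBit, Nat.shiftRight_eq_div_pow,
            Nat.div_eq_of_lt (Nat.one_lt_two_pow (by omega : i ≠ 0))]
        · cases M.testBit 0 <;> simp [h, Nat.testBit, Nat.shiftRight_eq_div_pow,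
            Nat.div_eq_of_lt (Nat.one_lt_two_pow (by omega : i ≠ 0))]
    have e : M * R = 2 ^ 156 * (M / 2 ^ 156 * R) + (M % 2 ^ 156) * R := by
      conv_lhs => rw [← Nat.div_add_mod M (2 ^ 156)]
      ring
    have hlt : M % 2 ^ 156 * R < 2 ^ 156 := by
      rw [hb]; cases M.testBit 0 <;> simp [-Nat.reducePow, hR, Nat.two_pow_pos]
    rw [e, Nat.testBit_two_pow_mul_add _ hlt, if_pos (by omega), hb]
    simp only [Nat.mul_zero, Nat.zero_add]
    cases M.testBit 0 <;> simp
  | succ r ih =>
    intro M hM j hj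
    have hM' : ∀ n, n % 156 ≠ 0 → (M / 2 ^ 156).testBit n = false := by
      intro n hn
      rw [Nat.testBit_div_two_pow]
      exact hM _ (by omega)
    have e : M * R = 2 ^ 156 * (M / 2 ^ 156 * R) + (M % 2 ^ 156) * R := by
      conv_lhs => rw [← Nat.div_add_mod M (2 ^ 156)]
      ring
    have hb : M % 2 ^ 156 ≤ 1 := by
      by_contra hc
      obtain ⟨i, hi1, hi2⟩ : ∃ i, (M % 2 ^ 156).testBit i = true ∧ 1 ≤ i := by
        by_contra hh
        push Not at hh
        apply hc
        have : M % 2 ^ 156 < 2 ^ 1 := Nat.lt_pow_two_of_testBit _ fun i hi => by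
          by_contra ht
          have := hh i (Bool.eq_true_of_not_eq_false ht)
          omega
        omega
      rw [Nat.testBit_mod_two_pow] at hi1
      simp only [Bool.and_eq_true, decide_eq_true_eq] at hi1
      rw [hM i (by rw [Nat.mod_eq_of_lt hi1.1]; omega)] at hi1
      exact Bool.false_ne_true hi1.2
    have hlt : M % 2 ^ 156 * R < 2 ^ 156 :=
      lt_of_le_of_lt (by nlinarith : M % 2 ^ 156 * R ≤ R) hR
    rw [e, Nat.testBit_two_pow_mul_add _ hlt, if_neg (by omega),
      show 156 * (r + 1) + j - 156 = 156 * r + j by omega, ih _ hM' j hj, Nat.testBit_div_two_pow]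
    congr 2

theorem col_sparse (X : ℕ) : ∀ n, n % 156 ≠ 0 → (X &&& colMask).testBit n = false := by
  intro n hn
  rw [Nat.testBit_and, colMask_bit]
  simp [hn]

section Field

variable {K : Type*} [Field K] [CharP K 2] {w : K} (hw : w * w = w + 1)

theorem rowOf_colMul (A : ℕ) {R : ℕ} (hR : R < 2 ^ 156) (k : ℕ) {i j : ℕ} (hi : i < 78)
    (hj : j < 156) : (rowOf ((A >>> k &&& colMask) * R) i).testBit j =
      (A.testBit (156 * i + k) && R.testBit j) := by
  rw [rowOf_bit _ _ _ hj, mul_bit hR i _ (col_sparse _) j hj, Nat.testBit_and, colMask_bit,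
    Nat.testBit_shiftRight, add_comm k]
  simp [show 156 * i < 156 * 78 by omega]

include hw

theorem rv_colMul (A : ℕ) {R : ℕ} (hR : R < 2 ^ 156) (k : ℕ) {i j : ℕ} (hi : i < 78)
    (hj : j < 78) : rv w (rowOf ((A >>> k &&& colMask) * R) i) j =
      b2k K (A.testBit (156 * i + k)) * rv w R j := by
  simp only [rv]
  rw [rowOf_colMul A hR k hi (by omega), rowOf_colMul A hR k hi (by omega)]
  cases A.testBit (156 * i + k) <;> simp [b2k]

theorem rv_mulT (A B : ℕ) {k i j : ℕ} (hk : k < 78) (hi : i < 78) (hj : j < 78) :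
    rv w (rowOf (mulT A B k) i) j = rv w (rowOf A i) k * rv w (rowOf B k) j := by
  have hv : val w 2 = w := (val_vals w).2.2.1
  rw [mulT, rowOf_xor, rv_xor, rv_colMul hw A (rowOf_lt B k) k hi hj,
    rv_colMul hw A (scale_lt 2 (rowOf_lt B k)) (78 + k) hi hj,
    rv_scale hw (by norm_num) (rowOf_lt B k) hj, hv]
  conv_rhs => rw [rv, rowOf_bit _ _ _ (by omega : k < 156), rowOf_bit _ _ _ (by omega : 78 + k < 156)]
  ring

theorem rv_mulL (A B : ℕ) {i j : ℕ} (hi : i < 78) (hj : j < 78) :
    ∀ L : List ℕ, (∀ k ∈ L, k < 78) → rv w (rowOf (L.foldr (fun k acc => mulT A B k ^^^ acc) 0) i) j =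
      (L.map fun k => rv w (rowOf A i) k * rv w (rowOf B k) j).sum
  | [], _ => by simp [rowOf, rv_zero]
  | k :: L, h => by
    rw [List.foldr_cons, rowOf_xor, rv_xor, rv_mulT hw A B (h k List.mem_cons_self) hi hj,
      rv_mulL A B hi hj L (fun q hq => h q (List.mem_cons_of_mem _ hq)), List.map_cons, List.sum_cons]

omit hw [Field K] [CharP K 2] in
theorem code_image : (Finset.univ : Finset chevE6.Idx).image (code chevE6) = Finset.range 78 := by
  apply Finset.eq_of_subset_of_card_le
  · intro a ha
    obtain ⟨z, -, rfl⟩ := Finset.mem_image.1 ha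
    exact Finset.mem_range.2 (code_lt z)
  · rw [Finset.card_image_of_injective _ code_injective, Finset.card_range, Finset.card_univ,
      Fintype.card_sum, Fintype.card_fin, Fintype.card_fin]
    rfl

omit hw [CharP K 2] in
theorem sum_code (f : ℕ → K) : ((List.range 78).map f).sum = ∑ z : chevE6.Idx, f (code chevE6 z) := by
  rw [← List.sum_toFinset _ List.nodup_range, List.toFinset_range, ← code_image,
    Finset.sum_image fun a _ b _ h => code_injective h]

theorem toK_mulM (A B : ℕ) : toK w (mulM A B) = toK w A * toK w B := by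
  ext x y
  show rv w (rowOf (mulM A B) (code chevE6 x)) (code chevE6 y) = _
  rw [mulM, rv_mulL hw A B (code_lt x) (code_lt y) _ (fun k hk => List.mem_range.1 hk),
    Matrix.mul_apply, sum_code]
  rfl

theorem toK_xor (A B : ℕ) : toK w (A ^^^ B) = toK w A + toK w B := by
  ext x y
  show rv w (rowOf (A ^^^ B) (code chevE6 x)) (code chevE6 y) = _
  rw [rowOf_xor, rv_xor]
  rfl

omit hw [CharP K 2] in
theorem toK_zero : toK w 0 = 0 := by
  ext x y
  show rv w (rowOf 0 (code chevE6 x)) (code chevE6 y) = _
  simp [rowOf, rv_zero]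

omit hw [Field K] [CharP K 2] in
theorem plane_bits (Y : ℕ) {i k : ℕ} (hi : i < 78) (hk : k < 78) :
    (loP Y).testBit (156 * i + k) = Y.testBit (156 * i + k) ∧
    (hiP Y).testBit (156 * i + k) = Y.testBit (156 * i + (78 + k)) ∧
    (loP Y).testBit (156 * i + (78 + k)) = false ∧
    (hiP Y).testBit (156 * i + (78 + k)) = false ∧
    ((loP Y) <<< 78).testBit (156 * i + k) = false ∧
    ((hiP Y) <<< 78).testBit (156 * i + k) = false := by
  simp only [loP, hiP, Nat.testBit_and, lowMask_bit, Nat.testBit_shiftLeft, Nat.testBit_shiftRight]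
  have m1 : (156 * i + k) % 156 = k := by omega
  have m2 : (156 * i + (78 + k)) % 156 = 78 + k := by omega
  refine ⟨?_, ?_, ?_, ?_, ?_, ?_⟩
  · rw [m1]; simp [hk, show 156 * i + k < 156 * 78 by omega]
  · rw [m1]; simp [hk, show 156 * i + k < 156 * 78 by omega,
      show 78 + (156 * i + k) = 156 * i + (78 + k) by omega]
  · rw [m2]; simp
  · rw [m2]; simp
  · by_cases h : 156 * i + k ≥ 78
    · simp [h, show ¬ (156 * i + k - 78) % 156 < 78 by omega]
    · simp [h]
  · by_cases h : 156 * i + k ≥ 78
    · simp [h, show ¬ (156 * i + k - 78) % 156 < 78 by omega]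
    · simp [h]

theorem toK_scM {c : ℕ} (hc : c < 4) (Y : ℕ) : toK w (scM c Y) = val w c • toK w Y := by
  have h2 : (2 : K) = 0 := CharTwo.two_eq_zero
  obtain ⟨v0, v1, v2, v3⟩ := val_vals w
  ext x y
  have hi : code chevE6 x < 78 := code_lt x
  have hk : code chevE6 y < 78 := code_lt y
  show rv w (rowOf (scM c Y) (code chevE6 x)) (code chevE6 y) =
    val w c * rv w (rowOf Y (code chevE6 x)) (code chevE6 y)
  obtain ⟨p1, p2, p3, p4, p5, p6⟩ := plane_bits Y hi hk
  simp only [rv, rowOf_bit _ _ _ (show code chevE6 y < 156 by omega),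
    rowOf_bit _ _ _ (show 78 + code chevE6 y < 156 by omega)]
  have e : 156 * code chevE6 x + (78 + code chevE6 y) - 78 = 156 * code chevE6 x + code chevE6 y := by
    omega
  interval_cases c
  · rw [v0]; simp [scM, b2k]
  · rw [v1]; simp [scM]
  · rw [v2]
    simp only [scM, Nat.shiftLeft_xor_distrib, Nat.testBit_xor, p2, p4, p5, p6]
    simp only [Nat.testBit_shiftLeft, e, p1, p2, show 156 * code chevE6 x + (78 + code chevE6 y) ≥ 78 by omega,
      decide_true, Bool.true_and, b2k_xor]
    simp [b2k]
    grind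
  · rw [v3]
    simp only [scM, Nat.testBit_xor, p1, p2, p3, p4, p5]
    simp only [Nat.testBit_shiftLeft, e, p1, show 156 * code chevE6 x + (78 + code chevE6 y) ≥ 78 by omega,
      decide_true, Bool.true_and, b2k_xor]
    simp [b2k]
    grind

end Field

end H60.Local
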