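import Cfsg.Agent.H60.Local.Cases
import Cfsg.Agent.H60.Local.CertS
import Cfsg.Agent.H60.Local.CertL0
import Cfsg.Agent.H60.Local.CertL1
import Cfsg.Agent.H60.Local.CertL2
import Cfsg.Agent.H60.Local.CertL3
import Cfsg.Agent.H60.Local.CertL4
import Cfsg.Agent.H60.Local.CertL5
import Cfsg.Agent.H60.Local.CertL6
import Cfsg.Agent.H60.Local.CertL7

/-!
The subgroups of order 7 and 49 of ²E₆(2).
-/

set_option autoImplicit false
set_option maxRecDepth 100000

namespace H60.Local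

open Cfsg.Lie H52 H60.TE6 Matrix

attribute [local irreducible] step idY delta scale mulM adM scM colMask lowMask

theorem words_lt : (∀ k ∈ wa, k < 16) ∧ (∀ k ∈ wb, k < 16) := by decide +kernel

theorem line_lt : ∀ i : ℕ, ∀ k ∈ wrep wa i ++ wb, k < 16 := fun i =>
  append_lt (wrep_lt words_lt.1 i) words_lt.2

theorem pair_lt (i j : ℕ) : ∀ k ∈ wrep wa i ++ wrep wb j, k < 16 :=
  append_lt (wrep_lt words_lt.1 i) (wrep_lt words_lt.2 j)

theorem st_lt : (∀ l ∈ [stL0, mvL0, stL1, mvL1, stL2, mvL2, stL3, mvL3, stL4, mvL4, stL5, mvL5,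
    stL6, mvL6, stL7, mvL7, stS, mvS], ∀ k ∈ l, k < 16) := by decide +kernel

theorem wit_lt : (∀ W ∈ [WL0, WL1, WL2, WL3, WL4, WL5, WL6, WL7], ∀ e ∈ W, e.1 = 0 ∧ e.2.1 < 78) ∧
    ∀ e ∈ WS, e.1 < 4 ∧ e.2.1 < 78 := by decide +kernel

theorem lines_of_ok : ∀ i < 7, ∀ j < 7, lineOK i j = true →
    (j : ZMod 7) ≠ 0 ∧ ∃ s ∈ [0, 1, 2, 4], (i : ZMod 7) = ((s : ℕ) : ZMod 7) * j := by
  decide +kernel

theorem line_ok : ∀ s ∈ [0, 1, 2, 4], lineOK s 1 = true := by decide +kernel

theorem seven_prime : Fact (Nat.Prime 7) := ⟨by norm_num⟩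

attribute [local instance] seven_prime

variable {K : Type*} [Field K] [Fintype K] [CharP K 2] {w : K} (hw : w * w = w + 1)
  (hK : Fintype.card K = 4)

/-- The first generator of the Sylow 7-subgroup. -/
noncomputable def ga : ↥(twistedE6 K 2) := gel hw words_lt.1

/-- The second generator of the Sylow 7-subgroup. -/
noncomputable def gb : ↥(twistedE6 K 2) := gel hw words_lt.2

include hw

theorem ga_seven : ga hw ^ 7 = 1 := by
  have h := certL0
  simp only [fixB, ordB, Bool.and_eq_true] at h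
  exact gel_pow_one hw _ h.1.1.1.1.1.1.1

theorem gb_seven : gb hw ^ 7 = 1 := by
  have h := certL1
  simp only [fixB, ordB, Bool.and_eq_true] at h
  have e := gel_pow_one hw (line_lt 0) h.1.1.1.1.1.1.1
  exact e

theorem gab_comm : Commute (ga hw) (gb hw) := by
  have e := congrArg (toK w) (Nat.eq_of_beq_eq_true certS_comm)
  rw [toK_gM hw (append_lt words_lt.1 words_lt.2), toK_gM hw (append_lt words_lt.2 words_lt.1),
    gel_append hw words_lt.1 words_lt.2, gel_append hw words_lt.2 words_lt.1] at e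
  exact Subtype.ext (Units.ext e)

/-- The parametrisation of the Sylow 7-subgroup. -/
noncomputable def fS : Multiplicative (ZMod 7 × ZMod 7) →* ↥(twistedE6 K 2) where
  toFun x := ga hw ^ x.toAdd.1.val * gb hw ^ x.toAdd.2.val
  map_one' := by simp [ZMod.val_zero]
  map_mul' x y := by
    show ga hw ^ (x.toAdd.1 + y.toAdd.1).val * gb hw ^ (x.toAdd.2 + y.toAdd.2).val = _
    rw [pow_zval_add (ga_seven hw), pow_zval_add (gb_seven hw)]
    exact ((gab_comm hw).pow_pow _ _).mul_mul_mul_comm _ _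

/-- The Sylow 7-subgroup. -/
noncomputable def sylS : Subgroup ↥(twistedE6 K 2) := (fS hw).range

theorem fS_gel (i j : ℕ) :
    fS hw (Multiplicative.ofAdd ((i : ZMod 7), (j : ZMod 7))) = gel hw (pair_lt i j) := by
  show ga hw ^ (i : ZMod 7).val * gb hw ^ (j : ZMod 7).val = _
  rw [pow_zval (ga_seven hw), pow_zval (gb_seven hw), ga, gb, ← gel_wrep, ← gel_wrep, ← gel_append]

theorem fS_eq (x : Multiplicative (ZMod 7 × ZMod 7)) :
    fS hw x = gel hw (pair_lt x.toAdd.1.val x.toAdd.2.val) := by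
  rw [← fS_gel, ZMod.natCast_zmod_val, ZMod.natCast_zmod_val]
  rfl

theorem fS_injective : Function.Injective (fS hw) := by
  rw [injective_iff_map_eq_one]
  intro x hx
  by_contra hne
  rw [fS_eq] at hx
  have h := List.all_eq_true.1 (List.all_eq_true.1 certS_inj _
    (List.mem_range.2 (ZMod.val_lt x.toAdd.1))) _ (List.mem_range.2 (ZMod.val_lt x.toAdd.2))
  simp only [Bool.or_eq_true, Bool.and_eq_true, beq_iff_eq] at h
  rcases h with ⟨h1, h2⟩ | h
  · rw [ZMod.val_eq_zero] at h1 h2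
    apply hne
    rw [← ofAdd_toAdd x, show x.toAdd = (0 : ZMod 7 × ZMod 7) from Prod.ext h1 h2, ofAdd_zero]
  · exact gel_ne_one hw _ h hx

theorem card_sylS : Nat.card (sylS hw) = 49 := by
  rw [sylS, Nat.card_congr ((fS hw).ofInjective (fS_injective hw)).symm.toEquiv,
    Nat.card_congr Multiplicative.toAdd, Nat.card_prod, Nat.card_zmod]

theorem fS_line (s : ℕ) :
    fS hw (Multiplicative.ofAdd ((s : ZMod 7), (1 : ZMod 7))) = gel hw (line_lt s) := by
  have h := fS_gel hw s 1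
  rw [Nat.cast_one] at h
  rw [h]
  exact Subtype.ext (by simp [gel, wrep])

theorem fS_a : fS hw (Multiplicative.ofAdd ((1 : ZMod 7), (0 : ZMod 7))) = gel hw words_lt.1 := by
  show ga hw ^ (1 : ZMod 7).val * gb hw ^ (0 : ZMod 7).val = _
  rw [ZMod.val_one, ZMod.val_zero, pow_one, pow_zero, mul_one, ga]

theorem trace_toK (Y : ℕ) : Matrix.trace (toK w Y) = val w (trM Y) := by
  have hx : ∀ a b, val w (a ^^^ b) = val w a + val w b := fun a b => by
    simp only [val, Nat.testBit_xor, b2k_xor]; ring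
  have key : ∀ L : List ℕ, val w (L.foldr (fun i acc => ent Y i i ^^^ acc) 0) =
      (L.map fun i => rv w (rowOf Y i) i).sum := by
    intro L
    induction L with
    | nil => simp [(val_vals w).1]
    | cons a L ih => rw [List.foldr_cons, hx, ih, List.map_cons, List.sum_cons, ent, val_rent]
  rw [trM, key, sum_code]
  rfl

theorem trace_fS (x : Multiplicative (ZMod 7 × ZMod 7)) :
    Matrix.trace (rho (fS hw x)) = bif lineOK x.toAdd.1.val x.toAdd.2.val then 1 else 0 := by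
  rw [fS_eq, ← toK_gM hw, trace_toK hw]
  have h := List.all_eq_true.1 (List.all_eq_true.1 certS_trace _
    (List.mem_range.2 (ZMod.val_lt x.toAdd.1))) _ (List.mem_range.2 (ZMod.val_lt x.toAdd.2))
  rw [sM] at h
  rw [Nat.eq_of_beq_eq_true h]
  obtain ⟨v0, v1, -, -⟩ := val_vals w
  cases lineOK x.toAdd.1.val x.toAdd.2.val <;> simp [v0, v1]

omit hw [Fintype K] [CharP K 2] in
theorem trace_conj (g z : ↥(twistedE6 K 2)) :
    Matrix.trace (rho (g * z * g⁻¹)) = Matrix.trace (rho z) := by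
  rw [map_mul, map_mul, Matrix.trace_mul_cycle, ← map_mul rho g⁻¹ g, inv_mul_cancel, map_one,
    one_mul]

theorem fS_pow (x : Multiplicative (ZMod 7 × ZMod 7)) (m : ℕ) :
    fS hw x ^ m = fS hw (Multiplicative.ofAdd ((m : ZMod 7) * x.toAdd.1, (m : ZMod 7) * x.toAdd.2)) := by
  rw [← map_pow]
  congr 1
  apply Multiplicative.toAdd.injective
  simp [toAdd_pow, Prod.ext_iff, nsmul_eq_mul]

include hK

/-- The normaliser of the Sylow 7-subgroup is not maximal. -/
theorem nc_sylS :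
    ¬ IsCoatom (Subgroup.normalizer (sylS hw : Set ↥(twistedE6 K 2))) := by
  classical
  let T : Set ↥(twistedE6 K 2) := {z | z ∈ sylS hw ∧ Matrix.trace (rho z) = 1}
  have hGs : ∀ r, r < 4 → ∃ s ∈ [0, 1, 2, 4], ∃ C,
      fixSpanB (wrep wa s ++ wb) 7 ([GL1, GL2, GL3, GL5].getD r 0) C = true := by
    intro r hr
    have e1 := certL1; have e2 := certL2; have e3 := certL3; have e5 := certL5
    simp only [fixB, Bool.and_eq_true] at e1 e2 e3 e5
    interval_cases r
    · exact ⟨0, by simp, _, e1.1.1.1.1.2⟩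
    · exact ⟨1, by simp, _, e2.1.1.1.1.2⟩
    · exact ⟨2, by simp, _, e3.1.1.1.1.2⟩
    · exact ⟨4, by simp, _, e5.1.1.1.1.2⟩
  have hmem : ∀ s ∈ [0, 1, 2, 4], gel hw (line_lt s) ∈ T := by
    intro s hs
    rw [← fS_line]
    refine ⟨MonoidHom.mem_range.2 ⟨_, rfl⟩, ?_⟩
    rw [trace_fS]
    have hs7 : s < 7 := by simp at hs; omega
    show (bif lineOK (s : ZMod 7).val (1 : ZMod 7).val then (1 : K) else 0) = 1
    rw [ZMod.val_cast_of_lt hs7, ZMod.val_one, line_ok s hs]
    rfl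
  have hR := fix_wit hw certS_wit T fun e he => by
    obtain ⟨hr, ha⟩ := wit_lt.2 e he
    obtain ⟨s, hs, C, hC⟩ := hGs _ hr
    exact ⟨ha, _, hmem s hs, fix_cols hw (line_lt s) hC⟩
  have hker := eq_ker_of_cert (W := fixW (br w) rho T) (Q := toK w QS) (fun x hx => by
    refine (Submodule.span_le (p := LinearMap.ker (toK w QS).mulVecLin)).2 ?_ hx
    rintro _ ⟨z, ⟨hz, hz1⟩, u, v, hu, hv, rfl⟩
    obtain ⟨x, rfl⟩ := hz
    rw [trace_fS] at hz1
    have hok : lineOK x.toAdd.1.val x.toAdd.2.val = true := by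
      by_contra hne
      rw [Bool.eq_false_iff.2 hne] at hz1
      exact zero_ne_one hz1
    obtain ⟨hj, s, hs, e⟩ := lines_of_ok _ (ZMod.val_lt _) _ (ZMod.val_lt _) hok
    rw [ZMod.natCast_zmod_val] at hj e
    rw [ZMod.natCast_zmod_val] at e
    have hpow : fS hw x ^ (x.toAdd.2)⁻¹.val = gel hw (line_lt s) := by
      rw [← fS_line, fS_pow, ZMod.natCast_zmod_val, inv_mul_cancel₀ hj]
      congr 3
      rw [e, mul_comm, mul_assoc, mul_inv_cancel₀ hj, mul_one]
    have hr : ∃ r < 4, ∃ C, fixSpanB (wrep wa s ++ wb) 7 ([GL1, GL2, GL3, GL5].getD r 0) C = true ∧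
        fixKillB QS ([GL1, GL2, GL3, GL5].getD r 0) = true := by
      have e1 := certL1; have e2 := certL2; have e3 := certL3; have e5 := certL5
      simp only [fixB, Bool.and_eq_true] at e1 e2 e3 e5
      have k := List.all_eq_true.1 certS_kill
      simp only [List.mem_cons, List.not_mem_nil, or_false] at hs
      rcases hs with rfl | rfl | rfl | rfl
      · exact ⟨0, by norm_num, _, e1.1.1.1.1.2, k GL1 (by simp)⟩
      · exact ⟨1, by norm_num, _, e2.1.1.1.1.2, k GL2 (by simp)⟩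
      · exact ⟨2, by norm_num, _, e3.1.1.1.1.2, k GL3 (by simp)⟩
      · exact ⟨3, by norm_num, _, e5.1.1.1.1.2, k GL5 (by simp)⟩
    obtain ⟨r, -, C, hC, hk⟩ := hr
    have fu := fix_pow hu (x.toAdd.2)⁻¹.val
    have fv := fix_pow hv (x.toAdd.2)⁻¹.val
    rw [hpow] at fu fv
    obtain ⟨c, rfl⟩ := fix_range hw (line_lt s) (by norm_num) hC fu
    obtain ⟨d, rfl⟩ := fix_range hw (line_lt s) (by norm_num) hC fv
    exact fix_kill hw hk c d) hR
  have hst : (∀ k ∈ stS, k < 16) ∧ ∀ k ∈ mvS, k < 16 :=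
    ⟨st_lt stS (by simp), st_lt mvS (by simp)⟩
  have hs := certS_stab
  simp only [Bool.and_eq_true] at hs
  refine not_isCoatom_of_mid (M := stabS rho (fixW (br w) rho T)) ?_
    (gel_stab hw hst.1 hs.1 hker) ?_ (gel_move hw hst.2 hs.2 hker hR)
  · intro x hx
    refine fixW_le_stab (br w) rho (br_rho hw hK) T fun z hz => ⟨conj_mem_normalizer hx hz.1, ?_⟩
    rw [trace_conj]
    exact hz.2
  · intro hm
    obtain ⟨x, e⟩ := conj_mem_normalizer hm
      (show ga hw ∈ sylS hw from ⟨_, (fS_a hw)⟩)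
    have hn := List.all_eq_true.1 (List.all_eq_true.1 certS_nrm _
      (List.mem_range.2 (ZMod.val_lt x.toAdd.1))) _ (List.mem_range.2 (ZMod.val_lt x.toAdd.2))
    refine ne_of_sameB hw hn ?_
    rw [toK_evL hw hst.1, toK_gM hw words_lt.1, toK_evL hw (pair_lt _ _), toK_gM hw hst.1,
      ← map_mul, ← map_mul]
    refine congrArg (rho (K := K))
      (?_ : gel hw hst.1 * ga hw = gel hw (pair_lt _ _) * gel hw hst.1)
    rw [← fS_eq hw x, e, inv_mul_cancel_right]

/-- The normaliser of a subgroup of order seven of the Sylow 7-subgroup is not maximal. -/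
theorem nc_seven {z : ↥(twistedE6 K 2)} (hz : z ∈ sylS hw) (hz1 : z ≠ 1) :
    ¬ IsCoatom (Subgroup.normalizer ((Subgroup.zpowers z : Subgroup _) : Set ↥(twistedE6 K 2))) := by
  obtain ⟨x, rfl⟩ := hz
  have hx7 : ∀ m : ℕ, m < 7 → m ≠ 0 → Subgroup.zpowers (fS hw x ^ m) = Subgroup.zpowers (fS hw x) := by
    intro m hm hm0
    have h7 : fS hw x ^ 7 = 1 := by
      rw [fS_pow, ZMod.natCast_self, zero_mul, zero_mul]
      exact map_one _
    have ho : orderOf (fS hw x) = 7 := orderOf_eq_prime h7 hz1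
    refine Subgroup.eq_of_le_of_card_ge (Subgroup.zpowers_le.2 (pow_mem (Subgroup.mem_zpowers _) m)) ?_
    rw [Nat.card_zpowers, Nat.card_zpowers, Nat.Coprime.orderOf_pow]
    rw [ho]
    exact ((by norm_num : Nat.Prime 7).coprime_iff_not_dvd).2
      (Nat.not_dvd_of_pos_of_lt (Nat.pos_of_ne_zero hm0) hm)
  have hL : ∀ l ∈ [stL0, mvL0, stL1, mvL1, stL2, mvL2, stL3, mvL3, stL4, mvL4, stL5, mvL5, stL6,
      mvL6, stL7, mvL7, stS, mvS], ∀ k ∈ l, k < 16 := st_lt
  have hW := wit_lt.1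
  by_cases hj : x.toAdd.2 = 0
  · have hi : x.toAdd.1 ≠ 0 := fun hi => hz1 (by
      rw [← ofAdd_toAdd x, show x.toAdd = (0 : ZMod 7 × ZMod 7) from Prod.ext hi hj, ofAdd_zero, map_one])
    have e : fS hw x ^ (x.toAdd.1)⁻¹.val = gel hw words_lt.1 := by
      rw [← fS_a, fS_pow, ZMod.natCast_zmod_val, inv_mul_cancel₀ hi, hj, mul_zero]
    rw [← hx7 _ (ZMod.val_lt _) (fun h => inv_ne_zero hi ((ZMod.val_eq_zero _).1 h)), e]
    exact nc_fix hw hK (by norm_num) words_lt.1 (hL stL0 (by simp)) (hL mvL0 (by simp))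
      (hW WL0 (by simp)) certL0
  · obtain ⟨s, hs, e⟩ : ∃ s < 7, fS hw x ^ (x.toAdd.2)⁻¹.val = gel hw (line_lt s) := by
      refine ⟨((x.toAdd.2)⁻¹ * x.toAdd.1).val, ZMod.val_lt _, ?_⟩
      rw [← fS_line, fS_pow, ZMod.natCast_zmod_val, ZMod.natCast_zmod_val, inv_mul_cancel₀ hj]
    rw [← hx7 _ (ZMod.val_lt _) (fun h => inv_ne_zero hj ((ZMod.val_eq_zero _).1 h)), e]
    interval_cases s
    · exact nc_fix hw hK (by norm_num) (line_lt 0) (hL stL1 (by simp)) (hL mvL1 (by simp)) (hW WL1 (by simp)) certL1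
    · exact nc_fix hw hK (by norm_num) (line_lt 1) (hL stL2 (by simp)) (hL mvL2 (by simp)) (hW WL2 (by simp)) certL2
    · exact nc_fix hw hK (by norm_num) (line_lt 2) (hL stL3 (by simp)) (hL mvL3 (by simp)) (hW WL3 (by simp)) certL3
    · exact nc_fix hw hK (by norm_num) (line_lt 3) (hL stL4 (by simp)) (hL mvL4 (by simp)) (hW WL4 (by simp)) certL4
    · exact nc_fix hw hK (by norm_num) (line_lt 4) (hL stL5 (by simp)) (hL mvL5 (by simp)) (hW WL5 (by simp)) certL5
    · exact nc_fix hw hK (by norm_num) (line_lt 5) (hL stL6 (by simp)) (hL mvL6 (by simp)) (hW WL6 (by simp)) certL6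
    · exact nc_fix hw hK (by norm_num) (line_lt 6) (hL stL7 (by simp)) (hL mvL7 (by simp)) (hW WL7 (by simp)) certL7

end H60.Local
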